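import Groth.Agent.InvDescLib.Sections
import Groth.Agent.AVLib.Const
import Groth.Agent.AVLib.Isogeny
import Groth.Agent.AVLib.Etale
import Groth.Agent.AVLib.Points
import Groth.Agent.AVLib.Square
import Groth.Agent.ParaFLib.Glue
import Groth.Agent.ASp.RedSub
import Groth.Agent.GrpQuotLib.Descend
import Mathlib.LinearAlgebra.LinearIndependent.Lemmas

/-!
# Classes killed by inverse image along multiplication by an invertible integer
-/

set_option autoImplicit false
set_option backward.isDefEq.respectTransparency false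
set_option linter.style.haveILetI false

universe u

open CategoryTheory CategoryTheory.Limits MonoidalCategory CartesianMonoidalCategory MonObj AlgebraicGeometry
open TopologicalSpace
open Groth.Agent.PicLib Groth.Agent.InvDescLib Groth.Agent.ParaFLib Groth.Agent.PullbackMod

noncomputable section

namespace Groth.Agent.PoincareLib

section Kummer

variable {X X' : Scheme.{u}} (g : X' ⟶ X) [SchDesc.IsFpqc g]

/-- Two modules with trivialisations on a covering having the same ratio are isomorphic. -/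
theorem nonempty_iso_of_ratio {L L' : X.Modules} (hL : PicF.IsInvertible L) (hL' : PicF.IsInvertible L')
    {σ : Γ((Scheme.Modules.pullback g).obj L, g ⁻¹ᵁ ⊤)} (hσ : Gen (g ⁻¹ᵁ ⊤) σ)
    {σ' : Γ((Scheme.Modules.pullback g).obj L', g ⁻¹ᵁ ⊤)} (hσ' : Gen (g ⁻¹ᵁ ⊤) σ')
    (v : Γ(pullback g g, ⊤))
    (hv : ∀ (W : X.Opens) (t : Γ(L, W)) (_ : Gen W t) (r : Γ(X', g ⁻¹ᵁ W)) (_ : IsCoef g le_top t σ r)
      (T : Scheme.{u}) (a b : T ⟶ X') (ea : ∀ s, a s ∈ g ⁻¹ᵁ W) (eb : ∀ s, b s ∈ g ⁻¹ᵁ W) (w : a ≫ g = b ≫ g),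
      val2 g v a b w * ev a ea r = ev b eb r)
    (hv' : ∀ (W : X.Opens) (t : Γ(L', W)) (_ : Gen W t) (r : Γ(X', g ⁻¹ᵁ W)) (_ : IsCoef g le_top t σ' r)
      (T : Scheme.{u}) (a b : T ⟶ X') (ea : ∀ s, a s ∈ g ⁻¹ᵁ W) (eb : ∀ s, b s ∈ g ⁻¹ᵁ W) (w : a ≫ g = b ≫ g),
      val2 g v a b w * ev a ea r = ev b eb r) :
    Nonempty (L ≅ L') := by
  have hloc : ∀ x : X, ∃ (W : X.Opens) (t : Γ(L, W)) (t' : Γ(L', W)) (r : Γ(X', g ⁻¹ᵁ W)), x ∈ W ∧ Gen W t ∧
      Gen W t' ∧ IsCoef g le_top t σ r ∧ IsCoef g le_top t' σ' r ∧ IsUnit r := by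
    intro x
    obtain ⟨W₁, t₁, hx₁, ht₁⟩ := exists_gen_nhd hL x
    obtain ⟨W₂, t₂, hx₂, ht₂⟩ := exists_gen_nhd hL' x
    let W := W₁ ⊓ W₂
    let t : Γ(L, W) := L.presheaf.map (homOfLE (inf_le_left : W ≤ W₁)).op t₁
    let t' : Γ(L', W) := L'.presheaf.map (homOfLE (inf_le_right : W ≤ W₂)).op t₂
    have ht : Gen W t := ht₁.res _
    have ht' : Gen W t' := ht₂.res _
    obtain ⟨r, hr, hru⟩ := exists_coef g hL (le_top : W ≤ ⊤) ht hσ
    obtain ⟨r', hr', hr'u⟩ := exists_coef g hL' (le_top : W ≤ ⊤) ht' hσ'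
    obtain ⟨s, hs⟩ := hru.exists_right_inv
    obtain ⟨c, hc⟩ := exists_fun g (r' * s) fun T a b ea eb w => by
      have h1 := hv W t ht r hr T a b ea eb w
      have h2 := hv' W t' ht' r' hr' T a b ea eb w
      have e1 : ev a ea r * ev a ea s = 1 := by rw [← map_mul, hs, map_one]
      have e2 : ev b eb r * ev b eb s = 1 := by rw [← map_mul, hs, map_one]
      rw [map_mul, map_mul]
      linear_combination (-(ev a ea r' * ev a ea s * ev b eb s)) * h1 + ev b eb s * h2
        + (val2 g v a b w * ev a ea r' * ev b eb s) * e1 + (-(ev a ea r' * ev a ea s)) * e2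
    have hcu : IsUnit c := by
      refine RingedSpace.isUnit_of_isUnit_germ _ _ c fun y hy => ?_
      obtain ⟨z, rfl⟩ := g.surjective y
      have h1 : z ∈ X'.basicOpen (g.app W c) := by
        rw [hc]
        exact (X'.toRingedSpace.mem_basicOpen (r' * s) z hy).2
          ((hr'u.mul (IsUnit.of_mul_eq_one_right r hs)).map _)
      rw [← Scheme.preimage_basicOpen] at h1
      exact (X.toRingedSpace.mem_basicOpen c (g z) hy).1 h1
    refine ⟨W, t, c • t', r, ⟨hx₁, hx₂⟩, ht, ht'.smul hcu, hr, ?_, hru⟩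
    show r • pullMap g L' le_rfl (c • t') = _
    rw [pullMap_smul, ← Scheme.Hom.app_eq_appLE, hc, ← mul_smul,
      show r * (r' * s) = r' by rw [← _root_.mul_assoc, _root_.mul_comm r r', _root_.mul_assoc, hs, _root_.mul_one]]
    exact hr'
  choose W t t' r hx ht ht' hr hr' hru using hloc
  have hη : ∀ i j, ∃ τ₀ : Γ(X, W i ⊓ W j),
      τ₀ • L.presheaf.map (homOfLE (inf_le_right : W i ⊓ W j ≤ W j)).op (t j) =
        L.presheaf.map (homOfLE (inf_le_left : W i ⊓ W j ≤ W i)).op (t i) := fun i j => by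
    obtain ⟨e, -, he⟩ := ((ht i).res inf_le_left).exists_unit ((ht j).res inf_le_right)
    exact ⟨e, he⟩
  choose τ₀ hη using hη
  refine nonempty_iso_of_bases (U := W) (s := t) (t := t')
    (eq_top_iff.2 fun z _ => TopologicalSpace.Opens.mem_iSup.2 ⟨z, hx z⟩) ht ht' τ₀ (fun i j => (hη i j).symm) fun i j => ?_
  have h1 : W i ⊓ W j ≤ W i := inf_le_left
  have h2 : W i ⊓ W j ≤ W j := inf_le_right
  obtain ⟨e', -, he'⟩ := ((ht' i).res h1).exists_unit ((ht' j).res h2)
  suffices e : τ₀ i j = e' by rw [e]; exact he'.symm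
  apply app_injective g
  refine ((hru i).map (X'.presheaf.map (homOfLE (g.preimage_mono h1)).op).hom).mul_left_cancel ?_
  have key : ∀ {M : X.Modules} (hM : PicF.IsInvertible M) {τ : Γ((Scheme.Modules.pullback g).obj M, g ⁻¹ᵁ ⊤)}
      {u : ∀ x, Γ(M, W x)} (_ : ∀ x, Gen (W x) (u x)) (_ : ∀ x, IsCoef g le_top (u x) τ (r x)) {e : Γ(X, W i ⊓ W j)}
      (_ : e • M.presheaf.map (homOfLE h2).op (u j) = M.presheaf.map (homOfLE h1).op (u i)),
      X'.presheaf.map (homOfLE (g.preimage_mono h1)).op (r i) * g.app (W i ⊓ W j) e =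
        X'.presheaf.map (homOfLE (g.preimage_mono h2)).op (r j) := by
    intro M hM τ u hu hτ e he
    let N := (Scheme.Modules.pullback g).obj M
    refine gen_inj ((AmpleEmb.gen_pullMap g hM (hu j)).res (g.preimage_mono h2)) ?_
    rw [mul_smul, pullMap_smul_res g h2 he, ← pullMap_res g M le_rfl h1 (g.preimage_mono h1) le_rfl (u i),
      ← N.map_smul, ← N.map_smul, hτ i, hτ j]
    exact (ParaFLib.res_res _ _ _).trans (ParaFLib.res_res _ _ _).symm
  exact (key hL ht hr (hη i j)).trans (key hL' ht' hr' he').symm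

end Kummer

variable {K : Type u} [Field K] [IsAlgClosed K] {A : Over (Spec (CommRingCat.of K))} [GrpObj A]
  [IsProper A.hom] [GeometricallyIntegral A.hom] [IsCommMonObj A]

/-- The translation by a point followed by another. -/
theorem trR_comp_trR (a b : 𝟙_ (Over (Spec (CommRingCat.of K))) ⟶ A) :
    AVLib.trR a ≫ AVLib.trR b = AVLib.trR (a * b) := by
  rw [AVLib.trR, AVLib.trR, AVLib.trR, MonObj.comp_mul, Category.comp_id, ← Category.assoc,
    toUnit_unique ((𝟙 A * (toUnit A ≫ a)) ≫ toUnit A) (toUnit A), MonObj.comp_mul, _root_.mul_assoc]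

/-- At most as many classes die under multiplication by `n` as there are `n`-torsion points. -/
theorem finite_ker_pull_npow (n : ℕ) (hn : (n : K) ≠ 0) :
    Finite {d : Pic A.left // pull (𝟙 A ^ n).left d = 1} ∧
      Nat.card {d : Pic A.left // pull (𝟙 A ^ n).left d = 1} ≤
        Nat.card {x : 𝟙_ (Over (Spec (CommRingCat.of K))) ⟶ A // x ^ n = 1} := by
  classical
  obtain ⟨dA, hdA⟩ := AVLib.exists_dim (A := A)
  have hn1 : 1 ≤ n := Nat.one_le_iff_ne_zero.2 fun e => hn (by simp [e])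
  haveI := AVLib.surjective_npow (A := A) n hn1
  haveI := AVLib.etale_npow hdA n hn
  haveI := AVLib.isFinite_npow (A := A) n hn1
  let q : A ⟶ A := 𝟙 A ^ n
  haveI : SchDesc.IsFpqc q.left := SchDesc.IsFpqc.of_quasiCompact _
  haveI : Subsingleton ↥(Spec (CommRingCat.of K)) := inferInstanceAs (Subsingleton (PrimeSpectrum K))
  haveI : IsIntegral A.left := GeometricallyIntegral.isIntegral_of_subsingleton A.hom
  haveI : Nonempty ↥(⊤ : A.left.Opens) := ⟨⟨genericPoint A.left, trivial⟩⟩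
  obtain ⟨hfinG, -⟩ := AVLib.natCard_pow_eq_one hdA n hn
  letI : CommGroup (𝟙_ (Over (Spec (CommRingCat.of K))) ⟶ A) := Hom.commGroup
  let G : Subgroup (𝟙_ (Over (Spec (CommRingCat.of K))) ⟶ A) := (powMonoidHom n).ker
  have hG : ∀ x, x ∈ G ↔ x ^ n = 1 := fun x => MonoidHom.mem_ker
  let eG : G ≃ {x : 𝟙_ (Over (Spec (CommRingCat.of K))) ⟶ A // x ^ n = 1} :=
    Equiv.subtypeEquivRight hG
  haveI : Finite G := Finite.of_equiv _ eG.symm
  haveI : Fintype G := Fintype.ofFinite G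
  have hτ : ∀ h : G, AVLib.trR h.1 ≫ q = q := fun h => by
    show _ ≫ 𝟙 A ^ n = _
    rw [MonObj.comp_pow, Category.comp_id, AVLib.trR, mul_pow, ← MonObj.comp_pow, (hG h.1).1 h.2, MonObj.comp_one,
      _root_.mul_one]
  let g := q.left
  have hw : ∀ h : G, 𝟙 A.left ≫ g = (AVLib.trR h.1).left ≫ g := fun h => by
    rw [Category.id_comp, ← Over.comp_left, hτ]
  let χ : Γ(pullback g g, ⊤) → G → Γ(A.left, ⊤) := fun v h => val2 g v (𝟙 _) (AVLib.trR h.1).left (hw h)
  have hconst : ∀ (σ : A ⟶ A) (z : Γ(A.left, ⊤)), σ.left.appTop z = z := fun σ z => by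
    obtain ⟨y, rfl⟩ := AVLib.surjective_appTop_of_isAlgClosed A.hom z
    show (A.hom.appTop ≫ σ.left.appTop) _ = _
    rw [← Scheme.Hom.comp_appTop, Over.w σ]
    rfl
  have hχ : ∀ v, IsUnit v → Cocycle g v → ∃ φ : G →* Γ(A.left, ⊤), ∀ h, φ h = χ v h := by
    intro v hvu hvc
    have hone : χ v 1 = 1 := by
      have h1 : (AVLib.trR ((1 : G) : 𝟙_ (Over (Spec (CommRingCat.of K))) ⟶ A)).left = 𝟙 _ := by
        rw [Subgroup.coe_one, AVLib.trR, MonObj.comp_one, _root_.mul_one, Over.id_left]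
      have h2 := hvc A.left (𝟙 _) (𝟙 _) (𝟙 _) rfl rfl
      have h3 : χ v 1 = val2 g v (𝟙 A.left) (𝟙 A.left) rfl := by
        simp only [χ, val2, h1]
      rw [h3]
      exact (isUnit_val2 g hvu _ _ rfl).mul_eq_left.1 h2 |>.trans rfl
    refine ⟨{ toFun := χ v, map_one' := hone, map_mul' := fun h h' => ?_ }, fun h => rfl⟩
    let τ := (AVLib.trR h.1).left
    have e : τ ≫ (AVLib.trR h'.1).left = (AVLib.trR (h * h').1).left := by
      rw [← Over.comp_left, trR_comp_trR]; rfl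
    have w₂ : τ ≫ g = (AVLib.trR (h * h').1).left ≫ g := (hw h).symm.trans (hw (h * h'))
    have h1 := val2_comp g v τ (𝟙 _) (AVLib.trR h'.1).left (hw h') τ _ (Category.comp_id _) e w₂
    rw [hconst] at h1
    show val2 g v _ _ _ = χ v h * χ v h'
    rw [show χ v h' = val2 g v τ _ w₂ from h1]
    exact (hvc A.left (𝟙 _) τ _ (hw h) w₂).symm
  haveI : IsReduced (pullback g g) := by
    haveI : Etale (pullback.fst g g) := MorphismProperty.pullback_fst g g (inferInstance : Etale g)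
    exact ASp.isReduced_of_etale (pullback.fst g g)
  let p : pullback g g ⟶ Spec (CommRingCat.of K) := pullback.fst g g ≫ A.hom
  haveI : LocallyOfFiniteType g := inferInstance
  haveI : LocallyOfFiniteType p := inferInstanceAs (LocallyOfFiniteType (pullback.fst g g ≫ A.hom))
  haveI : JacobsonSpace ↥(pullback g g) := LocallyOfFiniteType.jacobsonSpace p
  have hinj : ∀ v v', χ v = χ v' → v = v' := by
    intro v v' hvv'
    rw [← sub_eq_zero, ← basicOpen_eq_bot_iff]
    by_contra hne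
    obtain ⟨x, hx⟩ : ∃ x, x ∈ (pullback g g).basicOpen (v - v') := by
      by_contra h
      exact hne (eq_bot_iff.2 fun y hy => (h ⟨y, hy⟩).elim)
    obtain ⟨x, hx, hxc⟩ := nonempty_inter_closedPoints (X := ↥(pullback g g)) ⟨x, hx⟩
      ((pullback g g).basicOpen (v - v')).2.isLocallyClosed
    obtain ⟨⟨P, hP⟩, hPx⟩ := (pointEquivClosedPoint p).surjective ⟨x, hxc⟩
    have hP₁ : (P ≫ pullback.fst g g) ≫ A.hom = 𝟙 _ := by rw [Category.assoc]; exact hP
    have hcond : pullback.fst g g ≫ A.hom = pullback.snd g g ≫ A.hom := by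
      rw [← Over.w q, ← Category.assoc, pullback.condition, Category.assoc]
    let a : 𝟙_ (Over (Spec (CommRingCat.of K))) ⟶ A := Over.homMk (P ≫ pullback.fst g g) hP₁
    let b : 𝟙_ (Over (Spec (CommRingCat.of K))) ⟶ A := Over.homMk (P ≫ pullback.snd g g) (by
      rw [Category.assoc, ← hcond, ← Category.assoc]; exact hP₁)
    have hab : a ^ n = b ^ n := by
      have h1 : a ≫ q = b ≫ q := by
        ext1
        show (P ≫ pullback.fst g g) ≫ g = (P ≫ pullback.snd g g) ≫ g
        rw [Category.assoc, pullback.condition, Category.assoc]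
      rwa [MonObj.comp_pow, MonObj.comp_pow, Category.comp_id, Category.comp_id] at h1
    let h : G := ⟨a⁻¹ * b, (hG _).2 (by rw [mul_pow, inv_pow, hab, inv_mul_cancel])⟩
    have hb : a ≫ AVLib.trR h.1 = b := by
      rw [AVLib.trR, MonObj.comp_mul, Category.comp_id, ← Category.assoc, toUnit_unique (a ≫ toUnit A) (𝟙 _),
        Category.id_comp, mul_inv_cancel_left]
    have hP' : P = a.left ≫ pullback.lift (𝟙 _) (AVLib.trR h.1).left (hw h) := by
      apply pullback.hom_ext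
      · rw [Category.assoc, pullback.lift_fst, Category.comp_id]; rfl
      · rw [Category.assoc, pullback.lift_snd, ← Over.comp_left, hb]; rfl
    have h0 : P.appTop (v - v') = 0 := by
      rw [hP', Scheme.Hom.comp_appTop, map_sub]
      have := congrFun hvv' h
      simp only [χ, val2] at this
      simp only [CommRingCat.comp_apply]
      rw [this, sub_self]
    have h2 : P (IsLocalRing.closedPoint K) ∈ (pullback g g).basicOpen (v - v') := by
      rw [show P (IsLocalRing.closedPoint K) = x from congrArg Subtype.val hPx]; exact hx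
    have h3 : IsLocalRing.closedPoint K ∈ P ⁻¹ᵁ (pullback g g).basicOpen (v - v') := h2
    rw [Scheme.preimage_basicOpen_top, h0, Scheme.basicOpen_zero] at h3
    exact h3
  have hex : ∀ d : {d : Pic A.left // pull (𝟙 A ^ n).left d = 1}, ∃ (L : A.left.Modules) (hL : PicF.IsInvertible L)
      (σ : Γ((Scheme.Modules.pullback g).obj L, g ⁻¹ᵁ ⊤)) (v : Γ(pullback g g, ⊤)) (φ : G →* Γ(A.left, ⊤)),
      cls hL = d.1 ∧ Gen (g ⁻¹ᵁ ⊤) σ ∧ (∀ h, φ h = χ v h) ∧
      ∀ (W : A.left.Opens) (t : Γ(L, W)) (_ : Gen W t) (r : Γ(A.left, g ⁻¹ᵁ W)) (_ : IsCoef g le_top t σ r)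
        (T : Scheme.{u}) (a b : T ⟶ A.left) (ea : ∀ s, a s ∈ g ⁻¹ᵁ W) (eb : ∀ s, b s ∈ g ⁻¹ᵁ W) (w : a ≫ g = b ≫ g),
        val2 g v a b w * ev a ea r = ev b eb r := by
    rintro ⟨d, hd⟩
    obtain ⟨L, hL, rfl⟩ := exists_cls d
    rw [pull_cls, cls_eq_one, ← CubeLib.triv_iff] at hd
    obtain ⟨σ, hσ⟩ := hd
    obtain ⟨v, hvu, hvc, hv⟩ := exists_ratio g hL (σ := σ) hσ
    obtain ⟨φ, hφ⟩ := hχ v hvu hvc
    exact ⟨L, hL, σ, v, φ, rfl, hσ, hφ, hv⟩
  choose L hL σ v φ hd hσ hφ hv using hex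
  have hφi : Function.Injective φ := fun d d' h => by
    have e : v d = v d' := hinj _ _ (funext fun x => by rw [← hφ, ← hφ, h])
    refine Subtype.ext ?_
    rw [← hd d, ← hd d', cls_eq_cls]
    exact nonempty_iso_of_ratio g (hL d) (hL d') (hσ d) (hσ d') (v d) (hv d) (e ▸ hv d')
  have hli := linearIndependent_monoidHom G Γ(A.left, ⊤)
  haveI : Finite (G →* Γ(A.left, ⊤)) := hli.finite
  have hcard : Nat.card (G →* Γ(A.left, ⊤)) ≤ Nat.card G := by
    haveI : Fintype (G →* Γ(A.left, ⊤)) := Fintype.ofFinite _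
    rw [Nat.card_eq_fintype_card, Nat.card_eq_fintype_card]
    exact hli.fintype_card_le_finrank.trans (Module.finrank_fintype_fun_eq_card _).le
  exact ⟨Finite.of_injective φ hφi, ((Nat.card_le_card_of_injective φ hφi).trans hcard).trans (Nat.card_congr eG).le⟩

end Groth.Agent.PoincareLib
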