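import Groth.Agent.PoincareLib.GrpMono
import Groth.Agent.AVLib.Defect
import Groth.Agent.GenSeesawLib.Scheme
import Groth.Prelude.Def_EndRing

/-!
# The subgroup scheme matching two Mumford bundles along a homomorphism
-/

set_option autoImplicit false
set_option backward.isDefEq.respectTransparency false
set_option linter.style.haveILetI false

universe u

open CategoryTheory CategoryTheory.Limits MonoidalCategory CartesianMonoidalCategory MonObj AlgebraicGeometry
open Groth.Agent.PicLib Groth.Agent.AVLib

noncomputable section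

namespace Groth.Agent.PoincareLib

variable {k : Type u} [Field k] {X Y : Over (Spec (CommRingCat.of k))} [GrpObj X] [GrpObj Y]

theorem isPullback_whiskerLeft (A : Over (Spec (CommRingCat.of k))) {T' T : Over (Spec (CommRingCat.of k))}
    (t : T' ⟶ T) : IsPullback (A ◁ t).left (snd A T').left (snd A T).left t.left := by
  refine IsPullback.of_right (h₁₂ := (fst A T).left) (v₁₃ := A.hom) (h₂₂ := T.hom) ?_ ?_
    (IsPullback.of_hasPullback A.hom T.hom)
  · rw [← Over.comp_left, whiskerLeft_fst, Over.w t]
    exact IsPullback.of_hasPullback A.hom T'.hom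
  · rw [← Over.comp_left, whiskerLeft_snd, Over.comp_left]

/-- The class comparing the Mumford bundles of `c` and of `d` along `f` at a point of the product. -/
def adjCl (c : Pic X.left) (d : Pic Y.left) (f : X ⟶ Y) {T : Over (Spec (CommRingCat.of k))} (z : T ⟶ X ⊗ Y) :
    Pic (X ⊗ T).left :=
  defect c (fst X T) (snd X T ≫ z ≫ fst X Y) / defect d (fst X T ≫ f) (snd X T ≫ z ≫ snd X Y)

theorem pull_adjCl (c : Pic X.left) (d : Pic Y.left) (f : X ⟶ Y) {T T' : Over (Spec (CommRingCat.of k))}
    (t : T' ⟶ T) (z : T ⟶ X ⊗ Y) : pull (X ◁ t).left (adjCl c d f z) = adjCl c d f (t ≫ z) := by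
  simp only [adjCl, map_div, pull_defect, whiskerLeft_fst_assoc, whiskerLeft_snd_assoc, whiskerLeft_fst, Category.assoc]

theorem adjCl_one (c : Pic X.left) (d : Pic Y.left) (f : X ⟶ Y) {T : Over (Spec (CommRingCat.of k))} :
    adjCl c d f (1 : T ⟶ X ⊗ Y) = 1 := by
  simp only [adjCl, MonObj.comp_one, MonObj.one_comp, defect_one, div_one]

variable [IsProper X.hom] [GeometricallyIntegral X.hom] [IsProper Y.hom] [GeometricallyIntegral Y.hom]

theorem adjCl_mul (c : Pic X.left) (d : Pic Y.left) (f : X ⟶ Y) {T : Over (Spec (CommRingCat.of k))}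
    (a b : T ⟶ X ⊗ Y) : adjCl c d f (a * b) = adjCl c d f a * adjCl c d f b := by
  simp only [adjCl, MonObj.mul_comp, MonObj.comp_mul, defect_mul, div_mul_div_comm]

theorem adjCl_inv (c : Pic X.left) (d : Pic Y.left) (f : X ⟶ Y) {T : Over (Spec (CommRingCat.of k))}
    (a : T ⟶ X ⊗ Y) : adjCl c d f a⁻¹ = (adjCl c d f a)⁻¹ := by
  rw [eq_inv_iff_mul_eq_one, ← adjCl_mul, inv_mul_cancel, adjCl_one]

variable [IsCommMonObj X] [IsCommMonObj Y]

/-- The subgroup scheme of pairs with equal bundles. -/
theorem exists_adjKernel (c : Pic X.left) (d : Pic Y.left) (f : X ⟶ Y) [IsMonHom f] :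
    ∃ (G : Over (Spec (CommRingCat.of k))) (_ : GrpObj G) (i : G ⟶ X ⊗ Y), IsMonHom i ∧ IsCommMonObj G ∧
      IsClosedImmersion i.left ∧ ∀ {T : Over (Spec (CommRingCat.of k))} (z : T ⟶ X ⊗ Y),
        adjCl c d f z = 1 ↔ ∃ w : T ⟶ G, w ≫ i = z := by
  let Z := X ⊗ Y
  obtain ⟨L, hL, hLc⟩ := exists_cls (adjCl c d f (𝟙 Z))
  haveI : LocallyOfFiniteType Z.hom := by
    rw [← Over.w (snd X Y)]
    haveI : LocallyOfFiniteType (snd X Y).left :=
      MorphismProperty.pullback_snd (P := @LocallyOfFiniteType) X.hom Y.hom inferInstance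
    infer_instance
  haveI : IsLocallyNoetherian Z.left := LocallyOfFiniteType.isLocallyNoetherian Z.hom
  let F := (snd X Z).left
  haveI : IsProper F := MorphismProperty.pullback_snd (P := @IsProper) X.hom Z.hom inferInstance
  haveI : Flat X.hom := inferInstance
  haveI : Flat F := MorphismProperty.pullback_snd (P := @Flat) X.hom Z.hom inferInstance
  haveI : GeometricallyIntegral F :=
    MorphismProperty.pullback_snd (P := @GeometricallyIntegral) X.hom Z.hom inferInstance
  obtain ⟨W, em, hem, -, hu⟩ := GenSeesawLib.exists_seesaw_subscheme F hL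
  let G : Over (Spec (CommRingCat.of k)) := Over.mk (em ≫ Z.hom)
  let i : G ⟶ Z := Over.homMk em rfl
  haveI : IsClosedImmersion i.left := hem
  haveI : Mono i := (Over.forget _).mono_of_mono_map (show Mono i.left by infer_instance)
  have key : ∀ {T : Over (Spec (CommRingCat.of k))} (z : T ⟶ Z),
      adjCl c d f z = 1 ↔ ∃ w : T ⟶ G, w ≫ i = z := by
    intro T z
    have hsq := isPullback_whiskerLeft X z
    let e := hsq.isoPullback
    have e1 : e.hom ≫ pullback.fst F z.left = (X ◁ z).left := hsq.isoPullback_hom_fst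
    have e2 : e.hom ≫ pullback.snd F z.left = (snd X T).left := hsq.isoPullback_hom_snd
    have hz : pull (X ◁ z).left (cls hL) = adjCl c d f z := by rw [hLc, pull_adjCl, Category.comp_id]
    constructor
    · intro h
      obtain ⟨w, hw⟩ := (hu T.left z.left).2 ⟨_, ParaFLib.isInvertible_structureModule, by
        refine (cls_eq_cls (AmpleLib.isInvertible_pullback _ ParaFLib.isInvertible_structureModule)
          (AmpleLib.isInvertible_pullback _ hL)).1 ?_
        rw [← pull_cls _ ParaFLib.isInvertible_structureModule, ← pull_cls _ hL, cls_structureModule, map_one]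
        have h1 : pull e.hom (pull (pullback.fst F z.left) (cls hL)) = 1 := by
          rw [← pull_comp, e1, hz, h]
        have h2 := congrArg (pull e.inv) h1
        rw [map_one, ← pull_comp, Iso.inv_hom_id, pull_id] at h2
        exact h2.symm⟩
      exact ⟨Over.homMk w (by rw [← Over.w z, ← hw, Category.assoc]; rfl), Over.OverMorphism.ext hw⟩
    · rintro ⟨w, rfl⟩
      obtain ⟨M, hM, ⟨eM⟩⟩ := (hu T.left (w ≫ i).left).1 ⟨w.left, rfl⟩
      have h0 : pull (pullback.snd F (w ≫ i).left) (cls hM) = pull (pullback.fst F (w ≫ i).left) (cls hL) := by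
        rw [pull_cls, pull_cls]; exact (cls_eq_cls _ _).2 ⟨eM⟩
      have h1 := congrArg (pull e.hom) h0
      rw [← pull_comp, ← pull_comp, e1, e2, hz] at h1
      have h2 : cls hM = 1 := by
        have h3 := congrArg (pull (unitSec (A := X) (T := T)).left) h1
        rw [← pull_comp, ← Over.comp_left, unitSec, lift_snd, Over.id_left, pull_id] at h3
        rw [h3, adjCl, map_div, pull_defect, pull_defect, lift_fst, lift_fst_assoc,
          show (1 : T ⟶ X) ≫ f = 1 from MonObj.one_comp f, one_defect, one_defect, div_one]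
      rw [h2, map_one] at h1
      exact h1.symm
  haveI : IsCommMonObj Z := inferInstance
  obtain ⟨hG, hi, hcomm⟩ := exists_grpObj_of_mono i (fun {T} z => adjCl c d f z = 1) (fun {T} => adjCl_one c d f)
    (fun a b ha hb => by rw [adjCl_mul, ha, hb, _root_.mul_one])
    (fun a ha => by rw [adjCl_inv, ha, inv_one]) key
  exact ⟨G, hG, i, hi, hcomm, inferInstance, key⟩

end Groth.Agent.PoincareLib
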