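import Groth.Agent.PoincareLib.PicKer
import Groth.Agent.PoincareLib.Kernel
import Groth.Agent.AVLib.Stab
import Groth.Agent.AVLib.Torsion

/-!
# Torsion points have adjoint partners
-/

set_option autoImplicit false
set_option backward.isDefEq.respectTransparency false
set_option linter.style.haveILetI false
set_option linter.unusedSectionVars false

universe u

open CategoryTheory CategoryTheory.Limits MonoidalCategory CartesianMonoidalCategory MonObj AlgebraicGeometry
open Groth.Agent.PicLib Groth.Agent.AVLib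

noncomputable section

namespace Groth.Agent.PoincareLib

variable {K : Type u} [Field K] [IsAlgClosed K] {A : Over (Spec (CommRingCat.of K))} [GrpObj A]
  [IsProper A.hom] [GeometricallyIntegral A.hom]

/-- The homomorphism attached to a class, on rational points. -/
def phi (c : Pic A.left) : (𝟙_ (Over (Spec (CommRingCat.of K))) ⟶ A) →* Pic A.left where
  toFun a := pull (trR a).left c / c
  map_one' := by rw [trR, MonObj.comp_one, _root_.mul_one, Over.id_left, pull_id, div_self']
  map_mul' a b := by rw [div_mul_div_comm, div_eq_div_iff_mul_eq_mul, ← _root_.mul_assoc, square c a b]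

theorem phi_apply (c : Pic A.left) (a : 𝟙_ (Over (Spec (CommRingCat.of K))) ⟶ A) :
    phi c a = pull (trR a).left c / c := rfl

theorem phi_eq_one (c : Pic A.left) (a : 𝟙_ (Over (Spec (CommRingCat.of K))) ⟶ A) :
    phi c a = 1 ↔ pull (trR a).left c = c := div_eq_one

variable [IsCommMonObj A]

/-- Multiplication by `n` kills the image of an `n`-torsion point. -/
theorem pull_npow_phi {c : Pic A.left} (hc : pull ((𝟙 A)⁻¹).left c = c) {n : ℕ} (hn : 1 ≤ n)
    {a : 𝟙_ (Over (Spec (CommRingCat.of K))) ⟶ A} (ha : a ^ n = 1) : pull (𝟙 A ^ n).left (phi c a) = 1 := by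
  obtain ⟨b, hb⟩ := AVLib.exists_npow_eq (A := A) n hn a
  letI : CommGroup (A ⟶ A) := Hom.commGroup
  have e : (𝟙 A ^ n) ≫ trR a = trR b ≫ (𝟙 A ^ n) := by
    rw [comp_trR, MonObj.comp_pow, Category.comp_id, trR, mul_pow, ← MonObj.comp_pow, hb]
  rw [phi_apply, map_div, pull_left_comp, e, ← pull_left_comp, pull_npow_symm hc n, map_pow, ← div_pow,
    ← phi_apply, ← map_pow, sq, pow_mul, hb, ha, map_one]

variable {B : Over (Spec (CommRingCat.of K))} [GrpObj B] [IsProper B.hom] [GeometricallyIntegral B.hom] [IsCommMonObj B]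

/-- Every prime power torsion class from the target is the class of a point of the source. -/
theorem exists_phi_eq {L : A.left.Modules} (hL : CohB1.IsAmple L)
    (hc : pull ((𝟙 A)⁻¹).left (cls hL.1) = cls hL.1) {d : Pic B.left} (hd : pull ((𝟙 B)⁻¹).left d = d)
    (f : A ⟶ B) [IsMonHom f] (l : ℕ) [hl : Fact l.Prime] (hl0 : (l : K) ≠ 0) (m : ℕ)
    (y : 𝟙_ (Over (Spec (CommRingCat.of K))) ⟶ B) (hy : y ^ l ^ m = 1) :
    ∃ x, phi (cls hL.1) x = pull f.left (phi d y) := by
  classical
  obtain ⟨g, hg⟩ := AVLib.exists_dim (A := A)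
  let P := phi (cls hL.1)
  haveI : Finite P.ker := Set.Finite.to_subtype ((AVLib.finite_stab hL).subset fun a ha =>
    (phi_eq_one _ a).1 (MonoidHom.mem_ker.1 ha))
  let N₀ := Nat.card P.ker
  obtain ⟨y', hy'⟩ := AVLib.exists_npow_eq (A := B) (l ^ N₀) (Nat.one_le_pow _ _ hl.out.pos) y
  let n := l ^ (m + N₀)
  have hn1 : 1 ≤ n := Nat.one_le_pow _ _ hl.out.pos
  have hn : (n : K) ≠ 0 := by
    show ((l ^ (m + N₀) : ℕ) : K) ≠ 0
    rw [Nat.cast_pow]; exact pow_ne_zero _ hl0
  have hy'n : y' ^ n = 1 := by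
    show y' ^ l ^ (m + N₀) = 1
    rw [Nat.add_comm, pow_add, pow_mul, hy', hy]
  obtain ⟨hfin, hcard⟩ := finite_ker_pull_npow (A := A) n hn
  obtain ⟨hfinA, hcardA⟩ := AVLib.natCard_pow_eq_one hg n hn
  letI : CommGroup (𝟙_ (Over (Spec (CommRingCat.of K))) ⟶ A) := Hom.commGroup
  let M : Subgroup (Pic A.left) := (pull (𝟙 A ^ n).left).ker
  let T : Subgroup (𝟙_ (Over (Spec (CommRingCat.of K))) ⟶ A) := (powMonoidHom n).ker
  let I : Subgroup (Pic A.left) := T.map P
  haveI : Finite M := Finite.of_equiv _ (Equiv.subtypeEquivRight fun d => MonoidHom.mem_ker.symm)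
  haveI : Finite T := by
    haveI := hfinA
    exact Finite.of_equiv _ (Equiv.subtypeEquivRight (p := fun x => x ^ n = 1) (q := fun x => x ∈ T)
      fun d => Iff.rfl)
  have hIM : I ≤ M := by
    rintro _ ⟨a, ha, rfl⟩
    exact MonoidHom.mem_ker.2 (pull_npow_phi hc hn1 (MonoidHom.mem_ker.1 ha))
  have hT : Nat.card T = n ^ (2 * g) :=
    (Nat.card_congr (Equiv.subtypeEquivRight fun d => MonoidHom.mem_ker)).trans hcardA
  have hM : Nat.card M ≤ n ^ (2 * g) :=
    ((Nat.card_congr (Equiv.subtypeEquivRight fun d => MonoidHom.mem_ker)).le.trans hcard).trans hcardA.le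
  have hI : Nat.card T ≤ Nat.card I * N₀ := by
    let r : T →* I := MonoidHom.codRestrict (P.comp T.subtype) I fun a => ⟨a.1, a.2, rfl⟩
    have hr : Function.Surjective r := fun ⟨_, a, ha, e⟩ => ⟨⟨a, ha⟩, Subtype.ext e⟩
    rw [← Subgroup.card_mul_index r.ker, Subgroup.index_ker, MonoidHom.range_eq_top_of_surjective r hr,
      Subgroup.card_top, _root_.mul_comm]
    refine Nat.mul_le_mul_left _ (Nat.card_le_card_of_injective
      (fun a : r.ker => (⟨a.1.1, MonoidHom.mem_ker.2 (congrArg Subtype.val (MonoidHom.mem_ker.1 a.2))⟩ : P.ker)) ?_)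
    intro a b e
    have e' : a.1.1 = b.1.1 := congrArg (fun z : P.ker => z.1) e
    exact Subtype.ext (Subtype.ext e')
  let u := pull f.left (phi d y')
  have hu : u ∈ M := by
    refine MonoidHom.mem_ker.2 ?_
    have e : (𝟙 A ^ n) ≫ f = f ≫ (𝟙 B ^ n) := by
      rw [MonObj.pow_comp, MonObj.comp_pow, Category.id_comp, Category.comp_id]
    show pull (𝟙 A ^ n).left (pull f.left _) = 1
    rw [pull_left_comp, e, ← pull_left_comp, pull_npow_phi hd hn1 hy'n, map_one]
  have hidx : (I.subgroupOf M).index ≤ N₀ := by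
    have h1 := Subgroup.card_mul_index (I.subgroupOf M)
    rw [Nat.card_congr (Subgroup.subgroupOfEquivOfLe hIM).toEquiv] at h1
    refine Nat.le_of_mul_le_mul_left (c := Nat.card I) ?_ ?_
    · rw [h1]; exact (hM.trans hT.ge).trans hI
    · haveI : Finite I := Finite.of_injective _ (Subgroup.inclusion_injective hIM)
      exact Nat.card_pos
  obtain ⟨j, hj1, hj2, hj⟩ : ∃ j, 1 ≤ j ∧ j ≤ N₀ ∧ u ^ j ∈ I := by
    have hne : (I.subgroupOf M).index ≠ 0 := Subgroup.index_ne_zero_of_finite
    obtain ⟨j, hj0, hjle, hj⟩ := Subgroup.exists_pow_mem_of_index_ne_zero hne (⟨u, hu⟩ : M)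
    exact ⟨j, hj0, hjle.trans hidx, by simpa [Subgroup.mem_subgroupOf] using hj⟩
  have hun : u ^ l ^ (m + N₀) = 1 := by
    show pull f.left (phi d y') ^ n = 1
    rw [← map_pow, ← map_pow, hy'n, map_one, map_one]
  obtain ⟨x, -, hx⟩ := AVLib.pow_prime_pow_mem I u hl.out hj1 hj2 hun hj
  refine ⟨x, hx.trans ?_⟩
  show pull f.left (phi d y') ^ l ^ N₀ = _
  rw [← map_pow, ← map_pow, hy']

end Groth.Agent.PoincareLib
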