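import Groth.Agent.PoincareLib.Adjoint
import Groth.Agent.AbDualLib.Subvar

/-!
# Poincaré reducibility over any field
-/

set_option autoImplicit false
set_option backward.isDefEq.respectTransparency false
set_option linter.style.haveILetI false
set_option linter.unusedSectionVars false

universe u

open CategoryTheory CategoryTheory.Limits MonoidalCategory CartesianMonoidalCategory MonObj AlgebraicGeometry
open Groth.Agent.PicLib Groth.Agent.AVLib Groth.Agent.AVPtsLib

noncomputable section

namespace Groth.Agent.PoincareLib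

variable {k : Type u} [Field k]

/-- The image of a homomorphism is an abelian variety. -/
theorem exists_image_av {A B : Over (Spec (CommRingCat.of k))} [GrpObj A] [GrpObj B] [IsProper A.hom]
    [GeometricallyIntegral A.hom] [IsProper B.hom] [IsCommMonObj B] (f : A ⟶ B) [IsMonHom f] :
    ∃ (M : Over (Spec (CommRingCat.of k))) (_ : GrpObj M) (p : A ⟶ M) (j : M ⟶ B), IsMonHom p ∧ IsMonHom j ∧
      IsClosedImmersion j.left ∧ Surjective p.left ∧ IsProper M.hom ∧ GeometricallyIntegral M.hom ∧
      IsCommMonObj M ∧ p ≫ j = f := by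
  haveI : QuasiCompact f.left := by
    haveI : QuasiCompact (f.left ≫ B.hom) := by rw [Over.w f]; infer_instance
    exact QuasiCompact.of_comp f.left B.hom
  obtain ⟨M, hM, j, p, hj, hjc, hp, hpj, hpd, hpq, hps⟩ := MonoFibre.AntiAffinePart.exists_schemeImage f
  letI := hM
  haveI := hj; haveI := hjc; haveI := hpd; haveI := hpq; haveI := hps
  haveI : GeometricallyIntegral M.hom := AVLib.geometricallyIntegral_of_dominant M.hom p.left (Over.w p)
  haveI : IsProper M.hom := by rw [← Over.w j]; infer_instance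
  exact ⟨M, hM, p, j, hp, hj, hjc, hps, inferInstance, inferInstance,
    isCommMonObj_of_isProper_of_geometricallyIntegral M, hpj⟩

section Points

variable {K : Type u} [Field K] [IsAlgClosed K] {A B : Over (Spec (CommRingCat.of K))} [GrpObj A]
  [IsProper A.hom] [GeometricallyIntegral A.hom] [IsCommMonObj A] [GrpObj B] [IsProper B.hom]
  [GeometricallyIntegral B.hom] [IsCommMonObj B]

/-- Multiplication by `n` acts on the classes of points as the `n`-th power. -/
theorem pull_npow_phi' {c : Pic A.left} (hc : pull ((𝟙 A)⁻¹).left c = c) {n : ℕ} (hn : 1 ≤ n)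
    (a : 𝟙_ (Over (Spec (CommRingCat.of K))) ⟶ A) : pull (𝟙 A ^ n).left (phi c a) = phi c (a ^ n) := by
  obtain ⟨b, hb⟩ := AVLib.exists_npow_eq (A := A) n hn a
  letI : CommGroup (A ⟶ A) := Hom.commGroup
  have e : (𝟙 A ^ n) ≫ trR a = trR b ≫ (𝟙 A ^ n) := by
    rw [comp_trR, MonObj.comp_pow, Category.comp_id, trR, mul_pow, ← MonObj.comp_pow, hb]
  rw [phi_apply, map_div, pull_left_comp, e, ← pull_left_comp, pull_npow_symm hc n, map_pow, ← div_pow,
    ← phi_apply, ← map_pow, sq, pow_mul, hb]

/-- Restricting the class of a point of the source. -/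
theorem pull_phi_comp (f : A ⟶ B) [IsMonHom f] (d : Pic B.left) (a : 𝟙_ (Over (Spec (CommRingCat.of K))) ⟶ A) :
    pull f.left (phi d (a ≫ f)) = phi (pull f.left d) a := by
  have e : trR a ≫ f = f ≫ trR (a ≫ f) := by
    rw [comp_trR, trR, MonObj.mul_comp, Category.id_comp, Category.assoc]
  rw [phi_apply, phi_apply, map_div, pull_left_comp, ← e, ← pull_left_comp]

/-- A fixed power kills the points fixing an ample class. -/
theorem exists_pow_stab {L : A.left.Modules} (hL : CohB1.IsAmple L) :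
    ∃ q : ℕ, 1 ≤ q ∧ ∀ a, phi (cls hL.1) a = 1 → a ^ q = 1 := by
  letI : CommGroup (𝟙_ (Over (Spec (CommRingCat.of K))) ⟶ A) := Hom.commGroup
  let P := phi (cls hL.1)
  haveI : Finite P.ker := Set.Finite.to_subtype ((AVLib.finite_stab hL).subset fun a ha =>
    (phi_eq_one _ a).1 (MonoidHom.mem_ker.1 ha))
  refine ⟨Nat.card P.ker, Nat.card_pos, fun a ha => ?_⟩
  have h : (⟨a, MonoidHom.mem_ker.2 ha⟩ : P.ker) ^ Nat.card P.ker = 1 := pow_card_eq_one'
  exact congrArg Subtype.val h

theorem finite_of_pow {m : ℕ} (hm : 0 < m) (S : Set (𝟙_ (Over (Spec (CommRingCat.of K))) ⟶ A))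
    (h : ∀ a ∈ S, a ^ m = 1) : S.Finite := by
  obtain ⟨g, hg⟩ := AVLib.exists_dim (A := A)
  have h1 := (AVLib.natCard_torsion hg m hm).1
  haveI : Finite {t : 𝟙_ (Over (Spec (CommRingCat.of K))) ⟶ A // t ^ m = 1} :=
    Nat.finite_of_card_ne_zero fun e => by
      rw [e, zero_dvd_iff] at h1
      exact (pow_pos hm _).ne' h1
  exact (Set.finite_coe_iff.1 ‹Finite {t : 𝟙_ (Over (Spec (CommRingCat.of K))) ⟶ A // t ^ m = 1}› :
    {t : 𝟙_ (Over (Spec (CommRingCat.of K))) ⟶ A | t ^ m = 1}.Finite).subset h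

end Points

variable {A B : Over (Spec (CommRingCat.of k))} [GrpObj A] [GrpObj B] [IsProper A.hom] [GeometricallyIntegral A.hom]
  [IsProper B.hom] [GeometricallyIntegral B.hom] [IsCommMonObj A] [IsCommMonObj B]

/-- The defining relation of an adjoint on geometric points. -/
theorem phi_of_adjoint (K : Type u) [Field K] [Algebra k K] [IsAlgClosed K] {c : Pic A.left} {d : Pic B.left}
    {f : A ⟶ B} {r : B ⟶ A} {N : ℕ} (h : adjCl c d f (lift r (𝟙 B ^ N)) = 1) (y : bcPt K ⟶ B) :
    phi (pull (bcPr K A) c) (ptsEquiv K (y ≫ r)) =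
      pull ((Over.pullback (bcMap K)).map f).left (phi (pull (bcPr K B) d) (ptsEquiv K y ^ N)) := by
  have h1 := congrArg (pull (A ◁ y).left) h
  rw [map_one, pull_adjCl, comp_lift, MonObj.comp_pow, Category.comp_id, adjCl_point, div_eq_one] at h1
  rw [h1, map_pow]

/-- A symmetric ample class. -/
theorem exists_class : ∃ (L : A.left.Modules) (hL : CohB1.IsAmple L),
    pull ((𝟙 A)⁻¹).left (cls hL.1) = cls hL.1 := AVLib.exists_symmetric_ample

/-- Poincaré reducibility: an abelian subvariety is a quasi-retract. -/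
theorem exists_retraction (i : B ⟶ A) [IsMonHom i] [IsClosedImmersion i.left] :
    ∃ (N : ℕ) (r : A ⟶ B), 1 ≤ N ∧ IsMonHom r ∧ i ≫ r = 𝟙 B ^ N := by
  obtain ⟨L, hL, hc⟩ := exists_class (A := A)
  have hLB := AmpleLib.isAmple_pullback i.left hL
  have hcB : pull ((𝟙 B)⁻¹).left (cls hLB.1) = cls hLB.1 := by
    rw [show cls hLB.1 = pull i.left (cls hL.1) from (pull_cls _ hL.1).symm, pull_left_comp,
      show (𝟙 B)⁻¹ ≫ i = i ≫ (𝟙 A)⁻¹ by
        rw [GrpObj.inv_comp, GrpObj.comp_inv, Category.id_comp, Category.comp_id],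
      ← pull_left_comp, hc]
  obtain ⟨N, r, hN, hr, h⟩ := exists_adjoint hLB hcB hc i
  haveI := hr
  refine ⟨N, r, hN, hr, ?_⟩
  let K := AlgebraicClosure k
  haveI : IsAffineHom (bcPr K B) := isAffineHom_bcPr K
  have hLK : CohB1.IsAmple ((Scheme.Modules.pullback (bcPr K B)).obj ((Scheme.Modules.pullback i.left).obj L)) :=
    AmpleLib.isAmple_pullback _ hLB
  obtain ⟨q, hq, hqk⟩ := exists_pow_stab (A := bcObj K B) hLK
  obtain ⟨l, hl, hlk⟩ := AVHomLib.exists_prime_ne_zero (k := k)
  haveI := Fact.mk hl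
  haveI : IsMonHom (𝟙 B ^ N) := GrpSchLib.isMonHom_pow (𝟙 B) N
  letI : CommGroup (B ⟶ B) := Hom.commGroup
  let D := EndAV.Hom.of (i ≫ r) - EndAV.Hom.of (𝟙 B ^ N)
  have hD : D.toHom = (i ≫ r) / 𝟙 B ^ N := rfl
  suffices e : D.toHom = 1 by
    rw [hD, div_eq_one] at e
    exact e
  refine AVPtsLib.eq_one_of_torsion K l hlk D.toHom fun n y _ => ?_
  obtain ⟨y', hy'⟩ := AVPtsLib.exists_npow_eq (A := B) K q hq y
  rw [← hy', MonObj.pow_comp]
  refine (ptsEquiv K).injective ?_
  rw [map_pow, map_one]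
  refine hqk _ ?_
  rw [hD, GrpObj.comp_div, MonObj.comp_pow, Category.comp_id, map_div, map_pow, map_div, div_eq_one,
    show cls hLK.1 = pull (bcPr K B) (cls hLB.1) from (pull_cls _ hLB.1).symm, ← Category.assoc,
    phi_of_adjoint K h (y' ≫ i), ptsEquiv_comp, ← MonObj.pow_comp]
  refine (pull_phi_comp _ _ _).trans ?_
  congr 2
  rw [show cls hLB.1 = pull i.left (cls hL.1) from (pull_cls _ hL.1).symm, ← pull_comp, ← pull_comp,
    show ((Over.pullback (bcMap K)).map i).left ≫ bcPr K A = bcPr K B ≫ i.left from pullback.lift_fst _ _ _]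

/-- A homomorphism over an algebraically closed field whose kernel points are torsion of bounded order is finite. -/
theorem isFinite_of_finite_ker {K : Type u} [Field K] [IsAlgClosed K] {C D : Over (Spec (CommRingCat.of K))}
    [GrpObj C] [IsProper C.hom] [GeometricallyIntegral C.hom] [IsCommMonObj C] [GrpObj D] [IsProper D.hom]
    (q : C ⟶ D) [IsMonHom q] {m : ℕ} (hm : 0 < m)
    (h : ∀ z : 𝟙_ (Over (Spec (CommRingCat.of K))) ⟶ C, z ≫ q = 1 → z ^ m = 1) : IsFinite q.left := by
  obtain ⟨hH, hj⟩ := GrpQuotLib.exists_grpObj_kernel q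
  letI := hH
  haveI := hj
  let H := pullback q η[D]
  let j : H ⟶ C := pullback.fst q η[D]
  haveI : IsClosedImmersion η[D].left := GrpSchLib.isClosedImmersion_unit
  have hsq := GrpQuotLib.isPullback_left (IsPullback.of_hasPullback q η[D])
  haveI : IsClosedImmersion j.left := MorphismProperty.of_isPullback hsq.flip ‹IsClosedImmersion η[D].left›
  haveI : IsProper H.hom := by rw [← Over.w j]; infer_instance
  haveI : Mono j := (Over.forget _).mono_of_mono_map (show Mono j.left by infer_instance)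
  have hjq : j ≫ q = 1 := by
    rw [Hom.one_def, toUnit_unique (toUnit H) (pullback.snd q η[D])]
    exact pullback.condition
  let u : bcPt K ≅ 𝟙_ (Over (Spec (CommRingCat.of K))) := Over.isoMk (Iso.refl _) (by
    show 𝟙 _ ≫ 𝟙 _ = Spec.map (CommRingCat.ofHom (algebraMap K K))
    rw [Category.id_comp, AVLib.specMap_self])
  haveI : Finite {t : 𝟙_ _ ⟶ C // t ^ m = 1} := (finite_of_pow (A := C) hm {t | t ^ m = 1} fun a ha => ha).to_subtype
  haveI : Finite (bcPt K ⟶ H) := Finite.of_injective
    (fun x : bcPt K ⟶ H => (⟨(u.inv ≫ x) ≫ j, h _ (by rw [Category.assoc, hjq, MonObj.comp_one])⟩ :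
      {t : 𝟙_ _ ⟶ C // t ^ m = 1}))
    fun x x' e => (cancel_epi u.inv).1 ((cancel_mono j).1 (congrArg Subtype.val e))
  haveI : IsFinite H.hom := isFinite_of_finite_points K H inferInstance
  haveI : IsProper q.left := by
    haveI : IsProper (q.left ≫ D.hom) := by rw [Over.w q]; infer_instance
    exact IsProper.of_comp q.left D.hom
  refine GrpHomLib.isFinite_of_ker q ?_
  show IsFinite (pullback.snd q.left η[D].left)
  rw [← IsPullback.isoPullback_inv_snd hsq]
  haveI : IsFinite (pullback.snd q η[D]).left := by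
    rw [show (pullback.snd q η[D]).left = H.hom from
      (Category.comp_id _).symm.trans (Over.w (pullback.snd q η[D]))]
    infer_instance
  infer_instance

/-- A surjection of abelian varieties has a quasi-section. -/
theorem exists_section (p : A ⟶ B) [IsMonHom p] [Surjective p.left] :
    ∃ (N : ℕ) (s : B ⟶ A), 1 ≤ N ∧ IsMonHom s ∧ s ≫ p = 𝟙 B ^ N := by
  obtain ⟨L, hL, hc⟩ := exists_class (A := A)
  obtain ⟨L', hL', hd⟩ := exists_class (A := B)
  obtain ⟨N, s, hN, hs, h⟩ := exists_adjoint hL hc hd p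
  haveI := hs
  let K := AlgebraicClosure k
  let A' := bcObj K A
  let B' := bcObj K B
  let p' : A' ⟶ B' := (Over.pullback (bcMap K)).map p
  haveI : IsMonHom p' := inferInstance
  haveI : Surjective p'.left := by
    have hsq : IsPullback p'.left (bcPr K A) (bcPr K B) p.left := by
      have e1 : p'.left ≫ bcPr K B = bcPr K A ≫ p.left := pullback.lift_fst _ _ _
      refine (IsPullback.of_bot ?_ e1.symm (IsPullback.of_hasPullback B.hom (bcMap K))).flip
      rw [show p'.left ≫ pullback.snd B.hom (bcMap K) = pullback.snd A.hom (bcMap K) from pullback.lift_snd _ _ _,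
        Over.w p]
      exact IsPullback.of_hasPullback A.hom (bcMap K)
    exact MorphismProperty.of_isPullback hsq.flip ‹Surjective p.left›
  obtain ⟨Y, hY, j, cY, hj, hYp, hYg, hjp, hcY, hker⟩ := AbDualLib.exists_kernel_component p'
  letI := hY
  haveI := hj; haveI := hYp; haveI := hYg
  haveI : IsCommMonObj Y := isCommMonObj_of_isProper_of_geometricallyIntegral Y
  -- replace the component by its image
  obtain ⟨Y₁, hY₁, a, j₁, ha, hj₁, hj₁c, has, hY₁p, hY₁g, hY₁cm, haj⟩ := exists_image_av j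
  letI := hY₁
  haveI := ha; haveI := hj₁; haveI := hj₁c; haveI := has; haveI := hY₁p; haveI := hY₁g; haveI := hY₁cm
  have hj₁p : j₁ ≫ p' = 1 := by
    haveI : IsIntegral Y₁.left :=
      haveI : Subsingleton ↥(Spec (CommRingCat.of K)) := inferInstanceAs (Subsingleton (PrimeSpectrum K))
      GeometricallyIntegral.isIntegral_of_subsingleton Y₁.hom
    haveI : IsDominant a.left := ⟨a.left.surjective.denseRange⟩
    refine Over.OverMorphism.ext (ext_of_isDominant_of_isSeparated B'.hom ((Over.w _).trans (Over.w _).symm) a.left ?_)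
    rw [← Over.comp_left, ← Over.comp_left, ← Category.assoc, haj, hjp, MonObj.comp_one]
  have hker₁ : ∀ z : 𝟙_ _ ⟶ A', z ≫ p' = 1 → ∃ z₁, z₁ ≫ j₁ = z ^ cY := fun z hz => by
    obtain ⟨z₁, hz₁⟩ := hker z hz
    exact ⟨z₁ ≫ a, by rw [Category.assoc, haj, hz₁]⟩
  -- a quasi-section over the algebraic closure
  obtain ⟨N₁, r, hN₁, hr, hjr⟩ := exists_retraction j₁
  haveI := hr
  letI : CommGroup (A' ⟶ A') := Hom.commGroup
  haveI : IsMonHom (𝟙 A' ^ N₁) := GrpSchLib.isMonHom_pow (𝟙 A') N₁
  let E := EndAV.Hom.of (𝟙 A' ^ N₁) - EndAV.Hom.of (r ≫ j₁)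
  have hE : E.toHom = (𝟙 A' ^ N₁) / (r ≫ j₁) := rfl
  obtain ⟨C, hC, e, jC, he, hjC, hjCc, hes, hCp, hCg, hCcm, hejC⟩ := exists_image_av E.toHom
  letI := hC
  haveI := he; haveI := hjC; haveI := hjCc; haveI := hes; haveI := hCp; haveI := hCg; haveI := hCcm
  haveI : Subsingleton ↥(Spec (CommRingCat.of K)) := inferInstanceAs (Subsingleton (PrimeSpectrum K))
  haveI : IsIntegral C.left := GeometricallyIntegral.isIntegral_of_subsingleton C.hom
  have hjCr : jC ≫ r = 1 := by
    haveI : IsDominant e.left := ⟨e.left.surjective.denseRange⟩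
    refine Over.OverMorphism.ext (ext_of_isDominant_of_isSeparated Y₁.hom ((Over.w _).trans (Over.w _).symm) e.left ?_)
    rw [← Over.comp_left, ← Over.comp_left, ← Category.assoc, hejC, MonObj.comp_one, hE]
    congr 1
    rw [GrpObj.div_comp, MonObj.pow_comp, Category.id_comp, Category.assoc, hjr, MonObj.comp_pow, Category.comp_id,
      div_self']
  let q := jC ≫ p'
  have heq : e ≫ q = p' ≫ (𝟙 B' ^ N₁) := by
    rw [← Category.assoc, hejC, hE, GrpObj.div_comp, MonObj.pow_comp, Category.id_comp, Category.assoc, hj₁p,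
      MonObj.comp_one, div_one, MonObj.comp_pow, Category.comp_id]
  haveI : Surjective q.left := by
    haveI := AVLib.surjective_npow (A := B') N₁ hN₁
    haveI : Surjective (e.left ≫ q.left) := by rw [← Over.comp_left, heq, Over.comp_left]; infer_instance
    exact Surjective.of_comp e.left q.left
  haveI : IsFinite q.left := by
    refine isFinite_of_finite_ker q (m := cY * N₁) (Nat.mul_pos hcY hN₁) fun z hz => ?_
    obtain ⟨z₁, hz₁⟩ := hker₁ (z ≫ jC) (by rw [Category.assoc]; exact hz)
    have h1 := congrArg (· ≫ r) hz₁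
    simp only [Category.assoc] at h1
    rw [hjr, MonObj.comp_pow, Category.comp_id, MonObj.pow_comp, Category.assoc, hjCr, MonObj.comp_one, one_pow] at h1
    haveI : Mono jC := (Over.forget _).mono_of_mono_map (show Mono jC.left by infer_instance)
    rw [← cancel_mono jC, MonObj.pow_comp, MonObj.one_comp, pow_mul, ← hz₁, ← MonObj.pow_comp, h1, MonObj.one_comp]
  obtain ⟨n, g, hn, hg, -, hgq⟩ := AbDualLib.exists_dual C B' q (AVLib.dim_eq_of_isFinite_surjective q)
  haveI := hg
  let σ := g ≫ jC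
  have hσ : σ ≫ p' = 𝟙 B' ^ n := by rw [Category.assoc]; exact hgq
  -- the endomorphism of the target
  haveI : IsAffineHom (bcPr K A) := isAffineHom_bcPr K
  haveI : IsAffineHom (bcPr K B) := isAffineHom_bcPr K
  have hLA : CohB1.IsAmple ((Scheme.Modules.pullback (bcPr K A)).obj L) := AmpleLib.isAmple_pullback _ hL
  have hLB : CohB1.IsAmple ((Scheme.Modules.pullback (bcPr K B)).obj L') := AmpleLib.isAmple_pullback _ hL'
  have hLY := AmpleLib.isAmple_pullback j₁.left hLA
  obtain ⟨qY, hqY, hqY'⟩ := exists_pow_stab (A := Y₁) hLY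
  obtain ⟨qB, hqB, hqB'⟩ := exists_pow_stab (A := B') hLB
  let m₁ := cY * qY
  let h' : B ⟶ B := s ≫ p
  haveI : IsMonHom h' := inferInstanceAs (IsMonHom (s ≫ p))
  have hkill : ∀ y : bcPt K ⟶ B, y ≫ h' = 1 → ptsEquiv K y ^ (N * m₁ * n * qB) = 1 := by
    intro y hy
    let z := ptsEquiv K (y ≫ s)
    have hzp : z ≫ p' = 1 := by
      rw [← ptsEquiv_comp, Category.assoc]
      exact (congrArg (ptsEquiv K) hy).trans (map_one _)
    have hφ : phi (pull (bcPr K A) (cls hL.1)) z =
        pull p'.left (phi (pull (bcPr K B) (cls hL'.1)) (ptsEquiv K y ^ N)) := phi_of_adjoint K h y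
    obtain ⟨z₁, hz₁⟩ := hker₁ z hzp
    have h1 : phi (cls hLY.1) z₁ = 1 := by
      rw [show cls hLY.1 = pull j₁.left (pull (bcPr K A) (cls hL.1)) from by rw [pull_cls _ hL.1, pull_cls _ hLA.1],
        ← pull_phi_comp, hz₁, map_pow, hφ, map_pow, pull_left_comp, hj₁p, pull_one, one_pow]
    have h2 : z ^ m₁ = 1 := by
      rw [pow_mul, ← hz₁, ← MonObj.pow_comp, hqY' _ h1, MonObj.one_comp]
    have h3 : pull p'.left (phi (pull (bcPr K B) (cls hL'.1)) (ptsEquiv K y ^ (N * m₁))) = 1 := by
      rw [pow_mul, map_pow, map_pow, ← hφ, ← map_pow, h2, map_one]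
    have h4 := congrArg (pull σ.left) h3
    rw [map_one, pull_left_comp, hσ, pull_npow_phi' (pull_pr_symm K hd) hn, ← pow_mul] at h4
    rw [pow_mul _ (N * m₁ * n)]
    exact hqB' _ ((congrArg (fun c => phi c _) (pull_cls _ hL'.1).symm).trans h4)
  haveI : IsFinite h'.left := by
    obtain ⟨hH, hj'⟩ := GrpQuotLib.exists_grpObj_kernel h'
    letI := hH
    haveI := hj'
    let H := pullback h' η[B]
    let jH : H ⟶ B := pullback.fst h' η[B]
    haveI : IsClosedImmersion η[B].left := GrpSchLib.isClosedImmersion_unit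
    have hsq := GrpQuotLib.isPullback_left (IsPullback.of_hasPullback h' η[B])
    haveI : IsClosedImmersion jH.left := MorphismProperty.of_isPullback hsq.flip ‹IsClosedImmersion η[B].left›
    haveI : IsProper H.hom := by rw [← Over.w jH]; infer_instance
    haveI : Mono jH := (Over.forget _).mono_of_mono_map (show Mono jH.left by infer_instance)
    have hjh : jH ≫ h' = 1 := by
      rw [Hom.one_def, toUnit_unique (toUnit H) (pullback.snd h' η[B])]
      exact pullback.condition
    have hfinS := finite_of_pow (A := B') (m := N * m₁ * n * qB)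
      (Nat.mul_pos (Nat.mul_pos (Nat.mul_pos hN (Nat.mul_pos hcY hqY)) hn) hqB)
      {t | t ^ (N * m₁ * n * qB) = 1} fun a ha => ha
    haveI : Finite {t : 𝟙_ _ ⟶ B' // t ^ (N * m₁ * n * qB) = 1} := hfinS.to_subtype
    haveI : Finite (bcPt K ⟶ H) := Finite.of_injective
      (fun x : bcPt K ⟶ H => (⟨ptsEquiv K (x ≫ jH), hkill _ (by rw [Category.assoc, hjh, MonObj.comp_one])⟩ :
        {t : 𝟙_ _ ⟶ B' // t ^ (N * m₁ * n * qB) = 1}))
      fun x x' e => (cancel_mono jH).1 ((ptsEquiv K).injective (congrArg Subtype.val e))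
    haveI : IsFinite H.hom := isFinite_of_finite_points K H inferInstance
    haveI : IsProper h'.left := by
      haveI : IsProper (h'.left ≫ B.hom) := by rw [Over.w h']; infer_instance
      exact IsProper.of_comp h'.left B.hom
    refine GrpHomLib.isFinite_of_ker h' ?_
    show IsFinite (pullback.snd h'.left η[B].left)
    rw [← IsPullback.isoPullback_inv_snd hsq]
    haveI : IsFinite (pullback.snd h' η[B]).left := by
      rw [show (pullback.snd h' η[B]).left = H.hom from
        (Category.comp_id _).symm.trans (Over.w (pullback.snd h' η[B]))]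
      infer_instance
    infer_instance
  haveI : Subsingleton ↥(Spec (CommRingCat.of k)) := inferInstanceAs (Subsingleton (PrimeSpectrum k))
  haveI : IsIntegral B.left := GeometricallyIntegral.isIntegral_of_subsingleton B.hom
  haveI : Surjective h'.left := AVLib.surjective_of_finite_endo k B.hom h'.left
  obtain ⟨n', g', hn', hg', -, hgh⟩ := AbDualLib.exists_dual B B h' rfl
  haveI := hg'
  exact ⟨n', g' ≫ s, hn', inferInstance, by rw [Category.assoc]; exact hgh⟩

end Groth.Agent.PoincareLib
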