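import Groth.Prelude.Def_AlgGrp
import Mathlib

/-!
# A representable subgroup functor is a group object
-/

set_option autoImplicit false
set_option backward.isDefEq.respectTransparency false
set_option linter.style.haveILetI false

universe u

open CategoryTheory CategoryTheory.Limits MonoidalCategory CartesianMonoidalCategory MonObj AlgebraicGeometry

noncomputable section

namespace Groth.Agent.PoincareLib

/-- A monomorphism whose points are closed under the group law carries a group structure. -/
theorem exists_grpObj_of_mono {S : Scheme.{u}} {N G : Over S} [GrpObj G] [IsCommMonObj G] (i : N ⟶ G) [Mono i]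
    (P : ∀ {T : Over S}, (T ⟶ G) → Prop) (h1 : ∀ {T : Over S}, P (1 : T ⟶ G))
    (hmul : ∀ {T : Over S} (a b : T ⟶ G), P a → P b → P (a * b))
    (hinv : ∀ {T : Over S} (a : T ⟶ G), P a → P a⁻¹)
    (hrep : ∀ {T : Over S} (z : T ⟶ G), P z ↔ ∃ w : T ⟶ N, w ≫ i = z) :
    ∃ (_ : GrpObj N), IsMonHom i ∧ IsCommMonObj N := by
  have hN : ∀ {T : Over S} (a : T ⟶ N), P (a ≫ i) := fun a => (hrep _).2 ⟨a, rfl⟩
  obtain ⟨e, he⟩ := (hrep _).1 (h1 (T := 𝟙_ _))
  obtain ⟨m, hm⟩ := (hrep _).1 (hmul _ _ (hN (fst N N)) (hN (snd N N)))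
  obtain ⟨v, hv⟩ := (hrep _).1 (hinv _ (hN (𝟙 N)))
  rw [Category.id_comp] at hv
  have hone : ∀ {T : Over S} (a : T ⟶ 𝟙_ _), a ≫ e ≫ i = 1 := fun a => by rw [he, MonObj.comp_one]
  letI mon : MonObj N :=
    { one := e
      mul := m
      one_mul := by
        rw [← cancel_mono i, Category.assoc, hm, MonObj.comp_mul, whiskerRight_fst_assoc, whiskerRight_snd_assoc,
          hone, _root_.one_mul, leftUnitor_hom]
      mul_one := by
        rw [← cancel_mono i, Category.assoc, hm, MonObj.comp_mul, whiskerLeft_fst_assoc, whiskerLeft_snd_assoc,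
          hone, _root_.mul_one, rightUnitor_hom]
      mul_assoc := by
        rw [← cancel_mono i]
        simp only [Category.assoc, hm, MonObj.comp_mul, whiskerRight_fst_assoc, whiskerRight_snd_assoc,
          whiskerLeft_fst_assoc, whiskerLeft_snd_assoc, associator_hom_fst_assoc, associator_hom_snd_fst_assoc,
          associator_hom_snd_snd_assoc, _root_.mul_assoc] }
  haveI hmon : IsMonHom i := ⟨he.trans (by rw [Hom.one_def, toUnit_unique (toUnit (𝟙_ (Over S))) (𝟙 _), Category.id_comp]), by
    show m ≫ i = _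
    rw [hm, Hom.mul_def]; congr 1⟩
  letI grp : GrpObj N :=
    { inv := v
      left_inv := by
        rw [← cancel_mono i, Category.assoc, Category.assoc]
        show lift v (𝟙 N) ≫ m ≫ i = toUnit N ≫ e ≫ i
        rw [hone]
        rw [hm, MonObj.comp_mul, lift_fst_assoc, lift_snd_assoc, hv, Category.id_comp, inv_mul_cancel]
      right_inv := by
        rw [← cancel_mono i, Category.assoc, Category.assoc]
        show lift (𝟙 N) v ≫ m ≫ i = toUnit N ≫ e ≫ i
        rw [hone]
        rw [hm, MonObj.comp_mul, lift_fst_assoc, lift_snd_assoc, hv, Category.id_comp, mul_inv_cancel] }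
  refine ⟨grp, hmon, ⟨?_⟩⟩
  letI : CommGroup (N ⊗ N ⟶ G) := Hom.commGroup
  show (β_ N N).hom ≫ m = m
  rw [← cancel_mono i, Category.assoc, hm, MonObj.comp_mul,
    ← Category.assoc, ← Category.assoc, CartesianMonoidalCategory.braiding_hom_fst, CartesianMonoidalCategory.braiding_hom_snd]
  exact _root_.mul_comm _ _

end Groth.Agent.PoincareLib
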