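import Groth.Agent.PoincareLib.Reduce
import Groth.Agent.AVHomLib.Main
import Groth.Agent.CogenLib.Basic

/-!
# Products, quasi-inverses of isogenies, homomorphisms between simple abelian varieties
-/

set_option autoImplicit false
set_option backward.isDefEq.respectTransparency false
set_option linter.style.haveILetI false
set_option linter.unusedSectionVars false

universe u

open CategoryTheory CategoryTheory.Limits MonoidalCategory CartesianMonoidalCategory MonObj AlgebraicGeometry

noncomputable section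

namespace Groth.Agent.PoincareLib

variable {k : Type u} [Field k]

theorem dim_tensor (A W : Over (Spec (CommRingCat.of k))) [GrpObj A] [IsCommMonObj A] [IsProper A.hom] [GeometricallyIntegral A.hom]
    [GrpObj W] [IsCommMonObj W] [IsProper W.hom] [GeometricallyIntegral W.hom] {a w : ℕ} (ha : topologicalKrullDim A.left = a)
    (hw : topologicalKrullDim W.left = w) : topologicalKrullDim (A ⊗ W).left = ((a + w : ℕ) : WithBot ℕ∞) := by
  haveI : IsProper (A ⊗ W).hom := isProper_tensor
  haveI : Surjective (fst A W).left := ⟨fun x => ⟨(CartesianMonoidalCategory.lift (𝟙 A) (1 : A ⟶ W)).left x, by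
    rw [← Scheme.Hom.comp_apply, ← Over.comp_left, lift_fst]; rfl⟩⟩
  haveI := CogenLib.quasiCompact_hom (fst A W)
  have h := GrpHomLib.dim_eq (fst A W)
  rw [Set.range_eq_univ.mpr (fst A W).left.surjective,
    (Homeomorph.Set.univ ↥A.left).isHomeomorph.topologicalKrullDim_eq, ha] at h
  have hsq : IsPullback (CartesianMonoidalCategory.lift (1 : W ⟶ A) (𝟙 W)) (toUnit W) (fst A W) η[A] :=
    IsPullback.of_isLimit' ⟨by rw [lift_fst, Hom.one_def]⟩ (PullbackCone.IsLimit.mk _
      (fun s => s.fst ≫ snd A W)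
      (fun s => CartesianMonoidalCategory.hom_ext _ _
        (by
          rw [Category.assoc, Category.assoc, lift_fst, MonObj.comp_one, MonObj.comp_one, s.condition, Hom.one_def,
            toUnit_unique s.snd (toUnit _)])
        (by rw [Category.assoc, Category.assoc, lift_snd, Category.comp_id]))
      (fun s => toUnit_unique _ _)
      (fun s m h1 _ => by rw [← h1, Category.assoc, lift_snd, Category.comp_id]))
  rw [← (GrpQuotLib.isPullback_left hsq).isoPullback.schemeIsoToHomeo.isHomeomorph.topologicalKrullDim_eq, hw] at h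
  rw [h]
  push_cast
  rfl

/-- A finite product of abelian varieties, with projections and injections. -/
theorem exists_prod : ∀ (n : ℕ) (Z : Fin n → Over (Spec (CommRingCat.of k))) [∀ i, GrpObj (Z i)]
    [∀ i, IsCommMonObj (Z i)] [∀ i, IsProper (Z i).hom] [∀ i, GeometricallyIntegral (Z i).hom] (d : Fin n → ℕ),
    (∀ i, topologicalKrullDim (Z i).left = d i) →
    ∃ (W : Over (Spec (CommRingCat.of k))) (_ : GrpObj W) (_ : IsCommMonObj W) (_ : IsProper W.hom)
      (_ : GeometricallyIntegral W.hom) (pr : ∀ i, EndAV.Hom W (Z i)) (inj : ∀ i, EndAV.Hom (Z i) W),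
      topologicalKrullDim W.left = ((∑ i, d i : ℕ) : WithBot ℕ∞) ∧ (∀ i, inj i ≫ pr i = 𝟙 _) ∧
      (∀ i j, i ≠ j → inj i ≫ pr j = 0) ∧
      ∀ (T : Over (Spec (CommRingCat.of k))) (x y : T ⟶ W),
        (∀ i, x ≫ (pr i).toHom = y ≫ (pr i).toHom) → x = y
  | 0, Z, _, _, _, _, d, _ => by
    haveI : IsProper (𝟙_ (Over (Spec (CommRingCat.of k)))).hom :=
      inferInstanceAs (IsProper (𝟙 (Spec (CommRingCat.of k))))
    haveI : GeometricallyIntegral (𝟙_ (Over (Spec (CommRingCat.of k)))).hom := by
      refine ⟨fun L _ y V fst' snd' H => ?_⟩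
      haveI : IsIso snd' := MorphismProperty.of_isPullback (P := MorphismProperty.isomorphisms Scheme) H
        (inferInstanceAs (IsIso (𝟙 _)))
      exact .of_isIso (inv snd')
    refine ⟨𝟙_ _, inferInstance, inferInstance, inferInstance, inferInstance, fun i => i.elim0, fun i => i.elim0,
      ?_, fun i => i.elim0, fun i => i.elim0, fun T x y _ => toUnit_unique x y⟩
    rw [Finset.univ_eq_empty, Finset.sum_empty]
    show topologicalKrullDim (PrimeSpectrum k) = _
    rw [PrimeSpectrum.topologicalKrullDim_eq_ringKrullDim, ringKrullDim_eq_zero_of_field]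
    rfl
  | n + 1, Z, _, _, _, _, d, hd => by
    obtain ⟨W, hW, hWc, hWp, hWg, pr, inj, hdim, h1, h0, hjm⟩ :=
      exists_prod n (fun i => Z i.succ) (fun i => d i.succ) fun i => hd i.succ
    letI := hW
    haveI := hWc; haveI := hWp; haveI := hWg
    haveI : IsProper (Z 0 ⊗ W).hom := isProper_tensor
    haveI : GeometricallyIntegral (Z 0 ⊗ W).hom := by
      rw [← Over.w (fst (Z 0) W)]
      haveI : GeometricallyIntegral (fst (Z 0) W).left :=
        MorphismProperty.pullback_fst (P := @GeometricallyIntegral) (Z 0).hom W.hom inferInstance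
      haveI : Flat W.hom := inferInstance
      haveI : Flat (fst (Z 0) W).left := MorphismProperty.pullback_fst (P := @Flat) (Z 0).hom W.hom inferInstance
      haveI : UniversallyOpen W.hom := inferInstance
      haveI : UniversallyOpen (fst (Z 0) W).left :=
        MorphismProperty.pullback_fst (P := @UniversallyOpen) (Z 0).hom W.hom inferInstance
      exact AVLib.geometricallyIntegral_comp (fst (Z 0) W).left (Z 0).hom
    haveI : IsCommMonObj (Z 0 ⊗ W) := isCommMonObj_of_isProper_of_geometricallyIntegral _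
    haveI : IsMonHom (CartesianMonoidalCategory.lift (𝟙 (Z 0)) (1 : Z 0 ⟶ W)) := by
      haveI : IsMonHom (1 : Z 0 ⟶ W) := inferInstanceAs (IsMonHom (0 : EndAV.Hom (Z 0) W).toHom)
      infer_instance
    haveI : IsMonHom (CartesianMonoidalCategory.lift (1 : W ⟶ Z 0) (𝟙 W)) := by
      haveI : IsMonHom (1 : W ⟶ Z 0) := inferInstanceAs (IsMonHom (0 : EndAV.Hom W (Z 0)).toHom)
      infer_instance
    let f : EndAV.Hom (Z 0 ⊗ W) (Z 0) := EndAV.Hom.of (fst (Z 0) W)
    let s : EndAV.Hom (Z 0 ⊗ W) W := EndAV.Hom.of (snd (Z 0) W)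
    let iA : EndAV.Hom (Z 0) (Z 0 ⊗ W) := EndAV.Hom.of (CartesianMonoidalCategory.lift (𝟙 (Z 0)) 1)
    let iW : EndAV.Hom W (Z 0 ⊗ W) := EndAV.Hom.of (CartesianMonoidalCategory.lift 1 (𝟙 W))
    have hAf : iA ≫ f = 𝟙 _ := EndAV.Hom.ext (lift_fst _ _)
    have hAs : iA ≫ s = 0 := EndAV.Hom.ext (lift_snd _ _)
    have hWf : iW ≫ f = 0 := EndAV.Hom.ext (lift_fst _ _)
    have hWs : iW ≫ s = 𝟙 _ := EndAV.Hom.ext (lift_snd _ _)
    refine ⟨Z 0 ⊗ W, inferInstance, inferInstance, inferInstance, inferInstance,
      Fin.cases (motive := fun i => EndAV.Hom (Z 0 ⊗ W) (Z i)) f (fun i => s ≫ pr i),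
      Fin.cases (motive := fun i => EndAV.Hom (Z i) (Z 0 ⊗ W)) iA (fun i => inj i ≫ iW), ?_, ?_, ?_, ?_⟩
    · rw [Fin.sum_univ_succ]
      exact dim_tensor (Z 0) W (hd 0) hdim
    · intro i
      induction i using Fin.cases with
      | zero => simp only [Fin.cases_zero]; exact hAf
      | succ i =>
        simp only [Fin.cases_succ]
        rw [Category.assoc, ← Category.assoc iW, hWs, Category.id_comp, h1]
    · intro i j hij
      induction i using Fin.cases with
      | zero =>
        induction j using Fin.cases with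
        | zero => exact absurd rfl hij
        | succ j =>
          simp only [Fin.cases_zero, Fin.cases_succ]
          rw [← Category.assoc, hAs, zero_comp]
      | succ i =>
        induction j using Fin.cases with
        | zero =>
          simp only [Fin.cases_zero, Fin.cases_succ]
          rw [Category.assoc, hWf, comp_zero]
        | succ j =>
          simp only [Fin.cases_succ]
          rw [Category.assoc, ← Category.assoc iW, hWs, Category.id_comp, h0 i j fun e => hij (congrArg Fin.succ e)]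
    · intro T x y h
      refine CartesianMonoidalCategory.hom_ext _ _ (h 0) (hjm T _ _ fun i => ?_)
      have h' := h i.succ
      simp only [Fin.cases_succ, EndAV.Hom.toHom_comp] at h'
      rw [Category.assoc, Category.assoc]
      exact h'

section AlgClosed

variable {K : Type u} [Field K] [IsAlgClosed K] {A : Over (Spec (CommRingCat.of K))}
  [GrpObj A] [IsCommMonObj A] [IsProper A.hom] [GeometricallyIntegral A.hom]

/-- A family of homomorphisms with finite common kernel and complementary dimensions has a quasi-inverse. -/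
theorem exists_decomp {n : ℕ} {Z : Fin n → Over (Spec (CommRingCat.of K))} [∀ i, GrpObj (Z i)]
    [∀ i, IsCommMonObj (Z i)] [∀ i, IsProper (Z i).hom] [∀ i, GeometricallyIntegral (Z i).hom] (d : Fin n → ℕ)
    (hd : ∀ i, topologicalKrullDim (Z i).left = d i)
    (hA : topologicalKrullDim A.left = ((∑ i, d i : ℕ) : WithBot ℕ∞)) (p : ∀ i, EndAV.Hom A (Z i))
    (hker : Set.Finite {a : (𝟙_ (Over (Spec (CommRingCat.of K))) ⟶ A) | ∀ i, a ≫ (p i).toHom = 1}) :
    ∃ (N : ℕ) (q : ∀ i, EndAV.Hom (Z i) A), 1 ≤ N ∧ (∀ i, q i ≫ p i = N • 𝟙 _) ∧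
      (∀ i j, i ≠ j → q i ≫ p j = 0) ∧ ∑ i, p i ≫ q i = N • 𝟙 _ := by
  obtain ⟨W, hW, hWc, hWp, hWg, pr, inj, hdim, h1, h0, hjm⟩ := exists_prod n Z d hd
  letI := hW
  haveI := hWc; haveI := hWp; haveI := hWg
  let P : EndAV.Hom A W := ∑ i, p i ≫ inj i
  have hP : ∀ j, P ≫ pr j = p j := fun j => by
    rw [Preadditive.sum_comp, Finset.sum_eq_single j (fun i _ hi => by
      rw [Category.assoc, h0 i j hi, comp_zero]) (fun h => (h (Finset.mem_univ j)).elim),
      Category.assoc, h1, Category.comp_id]
  let φ : (𝟙_ (Over (Spec (CommRingCat.of K))) ⟶ A) →* (𝟙_ (Over (Spec (CommRingCat.of K))) ⟶ W) :=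
    { toFun := fun a => a ≫ P.toHom
      map_one' := MonObj.one_comp _
      map_mul' := fun a b => MonObj.mul_comp _ _ _ }
  have hk : ∀ a, a ∈ φ.ker → ∀ i, a ≫ (p i).toHom = 1 := fun a ha i => by
    rw [← hP i, EndAV.Hom.toHom_comp, ← Category.assoc, show a ≫ P.toHom = 1 from ha, MonObj.one_comp]
  haveI : Finite φ.ker := (hker.subset fun a ha => hk a ha).to_subtype
  haveI : IsFinite P.toHom.left := isFinite_of_finite_ker P.toHom (Nat.card_pos (α := φ.ker)) fun z hz => by
    have h : (⟨z, hz⟩ : φ.ker) ^ Nat.card φ.ker = 1 := pow_card_eq_one'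
    exact congrArg Subtype.val h
  haveI : Surjective P.toHom.left := AVLib.surjective_of_isFinite P.toHom (hA.trans hdim.symm)
  obtain ⟨N, g, hN, hg, hPg, hgP⟩ := AbDualLib.exists_dual A W P.toHom (hA.trans hdim.symm)
  haveI := hg
  let G := EndAV.Hom.of g
  have hPG : P ≫ G = N • 𝟙 _ := EndAV.Hom.ext (hPg.trans (EndAV.Hom.toHom_nsmul N (𝟙 (CommGrp.mk A))).symm)
  have hGP : G ≫ P = N • 𝟙 _ := EndAV.Hom.ext (hgP.trans (EndAV.Hom.toHom_nsmul N (𝟙 (CommGrp.mk W))).symm)
  refine ⟨N, fun i => inj i ≫ G, hN, fun i => ?_, fun i j hij => ?_, ?_⟩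
  · rw [← hP i, Category.assoc, ← Category.assoc G, hGP, Preadditive.nsmul_comp, Category.id_comp,
      Preadditive.comp_nsmul, h1]
  · rw [← hP j, Category.assoc, ← Category.assoc G, hGP, Preadditive.nsmul_comp, Category.id_comp,
      Preadditive.comp_nsmul, h0 i j hij, smul_zero]
  · simp only [← Category.assoc, ← Preadditive.sum_comp]
    exact hPG

end AlgClosed

/-- Homomorphisms between non-isogenous simple abelian varieties vanish. -/
theorem eq_zero_of_simple {B B' : Over (Spec (CommRingCat.of k))} [GrpObj B] [IsCommMonObj B] [IsProper B.hom]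
    [GeometricallyIntegral B.hom] [GrpObj B'] [IsCommMonObj B'] [IsProper B'.hom] [GeometricallyIntegral B'.hom]
    (hB : ∀ (C : Over (Spec (CommRingCat.of k))) [GrpObj C], IsProper C.hom → GeometricallyIntegral C.hom →
      ∀ (j : C ⟶ B) [IsMonHom j], IsClosedImmersion j.left → IsIso j ∨ topologicalKrullDim C.left = 0)
    (hB' : ∀ (C : Over (Spec (CommRingCat.of k))) [GrpObj C], IsProper C.hom → GeometricallyIntegral C.hom →
      ∀ (j : C ⟶ B') [IsMonHom j], IsClosedImmersion j.left → IsIso j ∨ topologicalKrullDim C.left = 0)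
    (hiso : ∀ (f : B ⟶ B') [IsMonHom f], ¬ (IsFinite f.left ∧ Surjective f.left)) (f : EndAV.Hom B B') : f = 0 := by
  have hz : ∀ {X Y : Over (Spec (CommRingCat.of k))} [GrpObj X] [GrpObj Y] [IsCommMonObj Y]
      (p : X ⟶ Y) [IsMonHom p] [IsProper Y.hom] [GeometricallyIntegral Y.hom],
      topologicalKrullDim Y.left = 0 → p = 1 := by
    intro X Y _ _ _ p _ _ _ h
    haveI := CogenLib.isIntegral_left Y
    haveI : IsClosedImmersion η[Y].left := GrpSchLib.isClosedImmersion_unit
    haveI : Surjective η[Y].left := ⟨Set.range_eq_univ.mp (by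
      by_contra hne
      have hlt := S10830.result Y.left (by rw [h]; exact WithBot.coe_injective.ne ENat.zero_ne_top) _
        η[Y].left.isClosedEmbedding.isClosed_range hne
      rw [h] at hlt
      haveI : Nonempty ↥(Set.range η[Y].left) := ⟨⟨_, ⟨IsLocalRing.closedPoint k, rfl⟩⟩⟩
      haveI : Nonempty (TopologicalSpace.IrreducibleCloseds ↥(Set.range η[Y].left)) :=
        ⟨⟨closure {Classical.arbitrary _}, isIrreducible_singleton.closure, isClosed_closure⟩⟩
      exact absurd (Order.krullDim_nonneg (α := TopologicalSpace.IrreducibleCloseds ↥(Set.range η[Y].left)))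
        (not_le.2 hlt))⟩
    haveI : IsIso η[Y].left := isIso_of_isClosedImmersion_of_surjective _
    have e : (η[Y] : 𝟙_ _ ⟶ Y) ≫ toUnit Y = 𝟙 _ := toUnit_unique _ _
    have e' : toUnit Y ≫ η[Y] = 𝟙 Y := by
      refine Over.OverMorphism.ext ?_
      have h1 : η[Y].left ≫ (toUnit Y).left = 𝟙 _ := congrArg CommaMorphism.left e
      show (toUnit Y).left ≫ η[Y].left = 𝟙 _
      rw [← cancel_epi η[Y].left, ← Category.assoc, h1, Category.id_comp, Category.comp_id]
    rw [← Category.comp_id p, ← e', ← Category.assoc, toUnit_unique (p ≫ toUnit Y) (toUnit X), Hom.one_def]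
  obtain ⟨M, hM, p, j, hp, hj, hjc, hps, hMp, hMg, hMc, hpj⟩ := exists_image_av (B := B') f.toHom
  letI := hM
  haveI := hp; haveI := hj; haveI := hjc; haveI := hps; haveI := hMp; haveI := hMg; haveI := hMc
  rcases hB' M hMp hMg j hjc with hi | h0
  · haveI := hi
    haveI : IsIso j.left := (Over.forget _).map_isIso j
    haveI : Surjective f.toHom.left := by rw [← hpj, Over.comp_left]; infer_instance
    obtain ⟨N, s, hN, hs, hsf⟩ := exists_section f.toHom
    haveI := hs
    let S := EndAV.Hom.of s
    let u : EndAV.Hom B B := N • 𝟙 _ - f ≫ S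
    have huf : u ≫ f = 0 := by
      simp only [u, Preadditive.sub_comp, Preadditive.nsmul_comp, Category.id_comp, Category.assoc]
      rw [show S ≫ f = N • 𝟙 _ from EndAV.Hom.ext (hsf.trans (EndAV.Hom.toHom_nsmul N (𝟙 (CommGrp.mk B'))).symm),
        Preadditive.comp_nsmul, Category.comp_id, sub_self]
    obtain ⟨M', hM', p', j', hp', hj', hjc', hps', hMp', hMg', hMc', hpj'⟩ := exists_image_av (B := B) u.toHom
    letI := hM'
    haveI := hp'; haveI := hj'; haveI := hjc'; haveI := hps'; haveI := hMp'; haveI := hMg'; haveI := hMc'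
    rcases hB M' hMp' hMg' j' hjc' with hi' | h0'
    · haveI := hi'
      haveI : IsIso j'.left := (Over.forget _).map_isIso j'
      haveI : Surjective u.toHom.left := by rw [← hpj', Over.comp_left]; infer_instance
      refine EndAV.Hom.ext (CogenLib.cancel_of_surjective u.toHom ?_)
      rw [← EndAV.Hom.toHom_comp, huf, EndAV.Hom.toHom_zero, MonObj.comp_one]
    · have hu : u = 0 := EndAV.Hom.ext (by rw [← hpj', hz p' h0', MonObj.one_comp, EndAV.Hom.toHom_zero])
      have hfs : f.toHom ≫ s = 𝟙 B ^ N := by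
        have h2 := congrArg EndAV.Hom.toHom (sub_eq_zero.1 hu).symm
        rw [EndAV.Hom.toHom_comp, EndAV.Hom.toHom_nsmul] at h2
        exact h2
      haveI := AVLib.isFinite_npow (A := B) N hN
      haveI : IsFinite (f.toHom.left ≫ s.left) := by rw [← Over.comp_left, hfs]; infer_instance
      haveI : IsSeparated s.left := by
        haveI : IsSeparated (s.left ≫ B.hom) := by rw [Over.w s]; infer_instance
        exact IsSeparated.of_comp s.left B.hom
      exact absurd ⟨IsFinite.of_comp f.toHom.left s.left, inferInstance⟩ (hiso f.toHom)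
  · exact EndAV.Hom.ext (by rw [← hpj, hz p h0, MonObj.one_comp, EndAV.Hom.toHom_zero])

end Groth.Agent.PoincareLib
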