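import Groth.Agent.PoincareLib.BC
import Groth.Agent.AVLib.MaxAbel
import Groth.Agent.AVLib.Isog
import Groth.Agent.AVHomLib.Main
import Groth.Agent.GrpQuotLib.KerGrp
import Groth.Agent.GrpSchLib.DeligneScheme
import Groth.Agent.GrpHomLib.Artinian
import Groth.Agent.AVPtsLib.Dense
import Groth.Agent.CommGrpAbLib.Basic

/-!
# Adjoints of homomorphisms for ample classes, over any field
-/

set_option autoImplicit false
set_option backward.isDefEq.respectTransparency false
set_option linter.style.haveILetI false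
set_option linter.unusedSectionVars false

universe u

open CategoryTheory CategoryTheory.Limits MonoidalCategory CartesianMonoidalCategory MonObj AlgebraicGeometry
open Groth.Agent.PicLib Groth.Agent.AVLib Groth.Agent.AVPtsLib

noncomputable section

namespace Groth.Agent.PoincareLib

variable {k : Type u} [Field k]

/-- A proper scheme over a field with finitely many geometric points is finite. -/
theorem isFinite_of_finite_points (K : Type u) [Field K] [Algebra k K] [IsAlgClosed K]
    (H : Over (Spec (CommRingCat.of k))) [IsProper H.hom] (h : Finite (bcPt K ⟶ H)) : IsFinite H.hom := by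
  haveI : Subsingleton ↥(Spec (CommRingCat.of k)) := inferInstanceAs (Subsingleton (PrimeSpectrum k))
  haveI := LocallyOfFiniteType.jacobsonSpace H.hom
  let HK := bcObj K H
  haveI : LocallyOfFiniteType HK.hom :=
    MorphismProperty.pullback_snd (P := @LocallyOfFiniteType) H.hom (bcMap K) inferInstance
  haveI := LocallyOfFiniteType.jacobsonSpace HK.hom
  haveI : Surjective (bcMap (k := k) K) :=
    ⟨fun x => ⟨IsLocalRing.closedPoint K, Subsingleton.elim (α := PrimeSpectrum k) _ _⟩⟩
  haveI : Surjective (bcPr K H) := MorphismProperty.pullback_fst (P := @Surjective) _ _ inferInstance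
  haveI := h
  have hfin : (closedPoints ↥H.left).Finite := by
    refine (Set.finite_range fun x : bcPt K ⟶ H => x.left (IsLocalRing.closedPoint K)).subset fun z hz => ?_
    have hcl : IsClosed ((bcPr K H) ⁻¹' {z}) := IsClosed.preimage (bcPr K H).continuous hz
    obtain ⟨z', hz', hz'c⟩ := nonempty_inter_closedPoints (X := ↥HK.left)
      ((bcPr K H).surjective z |>.elim fun w hw => ⟨w, hw⟩) hcl.isLocallyClosed
    obtain ⟨⟨P, hP⟩, hPz⟩ := (pointEquivClosedPoint HK.hom).surjective ⟨z', hz'c⟩
    have hP' : P ≫ pullback.snd H.hom (bcMap K) = 𝟙 _ := hP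
    refine ⟨Over.homMk (P ≫ bcPr K H) (by
      show (P ≫ pullback.fst H.hom (bcMap K)) ≫ H.hom = bcMap K
      rw [Category.assoc, pullback.condition, reassoc_of% hP']), ?_⟩
    show (P ≫ bcPr K H) (IsLocalRing.closedPoint K) = z
    rw [Scheme.Hom.comp_apply, show P (IsLocalRing.closedPoint K) = z' from congrArg Subtype.val hPz]
    exact hz'
  have hT1 : ∀ z : ↥H.left, IsClosed ({z} : Set ↥H.left) := fun z => by
    have hsub := AVLib.subsingleton_of_finite_closedPoints (C := closure {z}) isClosed_closure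
      isIrreducible_singleton.closure (hfin.subset Set.inter_subset_right)
    rw [← closure_eq_iff_isClosed]
    exact Set.Subset.antisymm (fun w hw => hsub hw (subset_closure rfl)) subset_closure
  haveI : Finite ↥H.left := Set.finite_univ_iff.1 (hfin.subset fun z _ => hT1 z)
  haveI : LocallyQuasiFinite H.hom := LocallyQuasiFinite.of_finite_preimage_singleton _ fun _ => Set.toFinite _
  exact IsFinite.of_isProper_of_locallyQuasiFinite H.hom

variable {X Y : Over (Spec (CommRingCat.of k))} [GrpObj X] [GrpObj Y] [IsProper X.hom] [GeometricallyIntegral X.hom]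
  [IsProper Y.hom] [GeometricallyIntegral Y.hom] [IsCommMonObj X] [IsCommMonObj Y]

theorem isProper_tensor : IsProper (X ⊗ Y).hom := by
  rw [← Over.w (snd X Y)]
  haveI : IsProper (snd X Y).left := MorphismProperty.pullback_snd (P := @IsProper) X.hom Y.hom inferInstance
  infer_instance

/-- Every homomorphism has an adjoint for a symmetric ample class at the source. -/
theorem exists_adjoint {L : X.left.Modules} (hL : CohB1.IsAmple L)
    (hc : pull ((𝟙 X)⁻¹).left (cls hL.1) = cls hL.1) {d : Pic Y.left} (hd : pull ((𝟙 Y)⁻¹).left d = d)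
    (f : X ⟶ Y) [IsMonHom f] :
    ∃ (N : ℕ) (r : Y ⟶ X), 1 ≤ N ∧ IsMonHom r ∧ adjCl (cls hL.1) d f (lift r (𝟙 Y ^ N)) = 1 := by
  classical
  haveI : Subsingleton ↥(Spec (CommRingCat.of k)) := inferInstanceAs (Subsingleton (PrimeSpectrum k))
  obtain ⟨G, hG, i, hi, hGc, hic, key⟩ := exists_adjKernel (cls hL.1) d f
  letI := hG
  haveI := hi; haveI := hGc; haveI := hic
  haveI := isProper_tensor (X := X) (Y := Y)
  haveI : IsProper G.hom := by rw [← Over.w i]; infer_instance
  haveI : Mono i := (Over.forget _).mono_of_mono_map (show Mono i.left by infer_instance)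
  let ρ : G ⟶ Y := i ≫ snd X Y
  haveI : IsMonHom ρ := inferInstanceAs (IsMonHom (i ≫ snd X Y))
  let K := AlgebraicClosure k
  haveI : IsAffineHom (bcPr K X) := isAffineHom_bcPr K
  have hLK : CohB1.IsAmple ((Scheme.Modules.pullback (bcPr K X)).obj L) := AmpleLib.isAmple_pullback _ hL
  have hcK : pull ((𝟙 (bcObj K X))⁻¹).left (cls hLK.1) = cls hLK.1 := by
    rw [show cls hLK.1 = pull (bcPr K X) (cls hL.1) from (pull_cls _ hL.1).symm, pull_pr_symm K hc]
  have hdK := pull_pr_symm K hd
  obtain ⟨l, hl, hlk⟩ := AVHomLib.exists_prime_ne_zero (k := k)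
  haveI := Fact.mk hl
  have hlK : (l : K) ≠ 0 := by
    rw [← map_natCast (algebraMap k K), ne_eq, map_eq_zero]
    exact hlk
  -- surjectivity
  haveI : IsProper ρ.left := by
    haveI : IsProper (ρ.left ≫ Y.hom) := by rw [Over.w ρ]; infer_instance
    exact IsProper.of_comp ρ.left Y.hom
  haveI : Surjective ρ.left := by
    let ρK : bcObj K G ⟶ bcObj K Y := (Over.pullback (bcMap K)).map ρ
    haveI : IsProper (bcObj K G).hom := inferInstanceAs (IsProper (pullback.snd G.hom _))
    haveI : QuasiCompact ρK.left := by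
      haveI : IsProper (ρK.left ≫ (bcObj K Y).hom) := by rw [Over.w ρK]; infer_instance
      haveI : IsProper ρK.left := IsProper.of_comp ρK.left (bcObj K Y).hom
      infer_instance
    obtain ⟨M, hM, a, g, ha, hac, -, hgi, -, -, hgs⟩ := MonoFibre.AntiAffinePart.exists_schemeImage ρK
    letI := hM
    haveI := ha; haveI := hac; haveI := hgs
    haveI : Surjective a.left := AVPtsLib.surjective_of_torsion l hlK a fun n y hy => by
      obtain ⟨y₀, rfl⟩ := (ptsEquiv (A := Y) K).surjective y
      obtain ⟨x, hx⟩ := exists_phi_eq (A := bcObj K X) (B := bcObj K Y) hLK hcK hdK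
        ((Over.pullback (bcMap K)).map f) l hlK n (ptsEquiv K y₀) hy
      obtain ⟨x₀, rfl⟩ := (ptsEquiv (A := X) K).surjective x
      obtain ⟨w, hw⟩ := (key (lift x₀ y₀)).1 (by
        rw [adjCl_point, show pull (bcPr K X) (cls hL.1) = cls hLK.1 from pull_cls _ hL.1, hx, div_self'])
      refine ⟨ptsEquiv K w ≫ g, ?_⟩
      rw [Category.assoc, hgi, ← ptsEquiv_comp]
      congr 1
      show w ≫ i ≫ snd X Y = y₀
      rw [reassoc_of% hw, lift_snd]
    haveI : Surjective ρK.left := by rw [← hgi, Over.comp_left]; infer_instance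
    haveI : Surjective (bcMap (k := k) K) :=
      ⟨fun x => ⟨IsLocalRing.closedPoint K, Subsingleton.elim (α := PrimeSpectrum k) _ _⟩⟩
    haveI : Surjective (bcPr K Y) := MorphismProperty.pullback_fst (P := @Surjective) _ _ inferInstance
    haveI : Surjective (bcPr K G ≫ ρ.left) := by
      rw [show bcPr K G ≫ ρ.left = ρK.left ≫ bcPr K Y from (pullback.lift_fst _ _ _).symm]
      infer_instance
    exact Surjective.of_comp (bcPr K G) ρ.left
  -- the kernel is finite
  obtain ⟨hH, hj⟩ := GrpQuotLib.exists_grpObj_kernel ρ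
  letI := hH
  haveI := hj
  let H := pullback ρ η[Y]
  let j : H ⟶ G := pullback.fst ρ η[Y]
  haveI : IsClosedImmersion η[Y].left := GrpSchLib.isClosedImmersion_unit
  have hsq := GrpQuotLib.isPullback_left (IsPullback.of_hasPullback ρ η[Y])
  haveI : IsClosedImmersion j.left := MorphismProperty.of_isPullback hsq.flip ‹IsClosedImmersion η[Y].left›
  haveI : IsProper H.hom := by rw [← Over.w j]; infer_instance
  haveI : Mono j := (Over.forget _).mono_of_mono_map (show Mono j.left by infer_instance)
  have hjρ : j ≫ ρ = 1 := by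
    rw [Hom.one_def, toUnit_unique (toUnit H) (pullback.snd ρ η[Y])]
    exact pullback.condition
  have hfinH : Finite (bcPt K ⟶ H) := by
    have hfin := AVLib.finite_stab hLK
    haveI := hfin.to_subtype
    have hsnd : ∀ x : bcPt K ⟶ H, (x ≫ j ≫ i) ≫ snd X Y = 1 := fun x => by
      rw [Category.assoc, Category.assoc, show j ≫ i ≫ snd X Y = 1 from hjρ, MonObj.comp_one]
    let e : (bcPt K ⟶ H) → {a | pull (trR a).left (cls hLK.1) = cls hLK.1} := fun x =>
      ⟨ptsEquiv K ((x ≫ j ≫ i) ≫ fst X Y), by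
        have h1 := (key (x ≫ j ≫ i)).2 ⟨x ≫ j, Category.assoc _ _ _⟩
        rw [show x ≫ j ≫ i = lift ((x ≫ j ≫ i) ≫ fst X Y) 1 from hom_ext _ _ (by rw [lift_fst])
          (by rw [lift_snd, hsnd]), adjCl_point, map_one, map_one, map_one, div_one,
          show pull (bcPr K X) (cls hL.1) = cls hLK.1 from pull_cls _ hL.1, phi_eq_one] at h1
        exact h1⟩
    refine Finite.of_injective e fun x x' h => ?_
    have h' := (ptsEquiv (A := X) K).injective (congrArg Subtype.val h)
    have h2 : x ≫ j ≫ i = x' ≫ j ≫ i := hom_ext _ _ h' (by rw [hsnd, hsnd])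
    exact (cancel_mono (j ≫ i)).1 h2
  haveI : IsFinite H.hom := isFinite_of_finite_points K H hfinH
  haveI : Flat H.hom := inferInstance
  haveI : LocallyOfFinitePresentation H.hom := inferInstance
  haveI : IsCommMonObj H := CommGrpAbLib.isComm_of_mono j
  let pt : ↥(Spec (CommRingCat.of k)) := IsLocalRing.closedPoint k
  let N := Scheme.Hom.finrank H.hom pt
  have hN : 1 ≤ N := by
    have h1 : H.hom (η[H].left pt) = pt := Subsingleton.elim _ _
    show 1 ≤ Scheme.Hom.finrank H.hom pt
    rw [← h1]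
    exact Scheme.Hom.one_le_finrank_map H.hom _
  have hkill := fun (T : Over (Spec (CommRingCat.of k))) (g : T ⟶ H) =>
    GrpSchLib.pow_eq_one_of_finrank H N (fun s => by rw [Subsingleton.elim s pt]) T g
  -- the quotient
  haveI : IsIntegral Y.left := GeometricallyIntegral.isIntegral_of_subsingleton Y.hom
  haveI : Flat ρ.left := AVLib.flat_of_surjective ρ
  haveI : SchDesc.IsFpqc ρ.left := SchDesc.IsFpqc.of_quasiCompact ρ.left
  haveI := GrpQuotLib.epi_of_isFpqc ρ
  obtain ⟨g, hg⟩ := GrpQuotLib.exists_desc ρ (𝟙 G ^ N) fun T u v huv => by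
    let w : T ⟶ H := pullback.lift (u / v) (toUnit T) (by
      rw [GrpObj.div_comp, huv, div_self', Hom.one_def])
    have hw : w ≫ j = u / v := pullback.lift_fst _ _ _
    letI : CommGroup (T ⟶ G) := Hom.commGroup
    rw [MonObj.comp_pow, MonObj.comp_pow, Category.comp_id, Category.comp_id, ← div_eq_one, ← div_pow, ← hw,
      ← MonObj.pow_comp, hkill, MonObj.one_comp]
  haveI : IsMonHom (𝟙 G ^ N) := GrpSchLib.isMonHom_pow (𝟙 G) N
  haveI : IsMonHom g := by
    refine ⟨?_, ?_⟩
    · rw [← IsMonHom.one_hom ρ, Category.assoc, hg, IsMonHom.one_hom (𝟙 G ^ N)]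
    · haveI : Epi (ρ ⊗ₘ ρ) := by
        rw [MonoidalCategory.tensorHom_def]
        haveI := GrpQuotLib.isFpqc_whiskerRight ρ G
        haveI := GrpQuotLib.isFpqc_whiskerLeft ρ Y
        haveI := GrpQuotLib.epi_of_isFpqc (ρ ▷ G)
        haveI := GrpQuotLib.epi_of_isFpqc (Y ◁ ρ)
        exact epi_comp _ _
      rw [← cancel_epi (ρ ⊗ₘ ρ), ← IsMonHom.mul_hom_assoc ρ, hg, IsMonHom.mul_hom (𝟙 G ^ N),
        MonoidalCategory.tensorHom_comp_tensorHom_assoc, hg]
  have hgρ : g ≫ ρ = 𝟙 Y ^ N := by
    rw [← cancel_epi ρ, ← Category.assoc, hg, MonObj.pow_comp, Category.id_comp, MonObj.comp_pow, Category.comp_id]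
  refine ⟨N, g ≫ i ≫ fst X Y, hN, inferInstance, (key _).2 ⟨g, hom_ext _ _ ?_ ?_⟩⟩
  · rw [lift_fst, Category.assoc]
  · rw [lift_snd, Category.assoc]
    exact hgρ

end Groth.Agent.PoincareLib
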