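import Groth.Agent.PoincareLib.Points
import Groth.Agent.AVPtsLib.BC

/-!
# The subgroup scheme on points of an algebraic closure
-/

set_option autoImplicit false
set_option backward.isDefEq.respectTransparency false
set_option linter.style.haveILetI false
set_option linter.unusedSectionVars false

universe u

open CategoryTheory CategoryTheory.Limits MonoidalCategory CartesianMonoidalCategory MonObj AlgebraicGeometry
open Groth.Agent.PicLib Groth.Agent.AVLib Groth.Agent.AVPtsLib

noncomputable section

namespace Groth.Agent.PoincareLib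

variable {k : Type u} [Field k] (K : Type u) [Field K] [Algebra k K]
  (A : Over (Spec (CommRingCat.of k)))

/-- The projection from the extension. -/
abbrev bcPr : (bcObj K A).left ⟶ A.left := pullback.fst A.hom (bcMap K)

/-- The extension over the small field is the product with the point. -/
def bcTensorIso : (Over.map (bcMap K)).obj (bcObj K A) ≅ A ⊗ bcPt K :=
  Over.isoMk (Iso.refl _) (by
    show 𝟙 _ ≫ (A ⊗ bcPt K).hom = pullback.snd A.hom (bcMap K) ≫ bcMap K
    rw [Category.id_comp, ← Over.w (snd A (bcPt K))]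
    rfl)

variable {A}

theorem isAffineHom_bcPr : IsAffineHom (bcPr K A) :=
  MorphismProperty.pullback_fst (P := @IsAffineHom) _ _ inferInstance

variable [GrpObj A]

/-- Morphisms from the product with the point as endomorphisms of the extension. -/
def toBC : (A ⊗ bcPt K ⟶ A) →* (bcObj K A ⟶ bcObj K A) where
  toFun φ := (Over.mapPullbackAdj (bcMap K)).homEquiv _ A ((bcTensorIso K A).hom ≫ φ)
  map_one' := by rw [MonObj.comp_one, Adjunction.homEquiv_unit, Functor.map_one, MonObj.comp_one]
  map_mul' a b := by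
    rw [MonObj.comp_mul, Adjunction.homEquiv_unit, Functor.map_mul, MonObj.comp_mul]
    rfl

theorem toBC_pr (φ : A ⊗ bcPt K ⟶ A) : (toBC K φ).left ≫ bcPr K A = φ.left := by
  have e : ∀ {Z : Over (Spec (CommRingCat.of K))} (u : (Over.map (bcMap K)).obj Z ⟶ A),
      ((Over.mapPullbackAdj (bcMap K)).homEquiv Z A u).left ≫ pullback.fst A.hom (bcMap K) = u.left := fun u => by
    simp [Over.mapPullbackAdj, Adjunction.mkOfHomEquiv_homEquiv]
  exact (e _).trans (Category.id_comp _)

theorem toBC_snd (φ : A ⊗ bcPt K ⟶ A) : (toBC K φ).left ≫ pullback.snd A.hom (bcMap K) = pullback.snd A.hom (bcMap K) :=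
  Over.w (toBC K φ)

theorem toBC_fst : toBC K (fst A (bcPt K)) = 𝟙 _ := by
  ext1
  apply pullback.hom_ext
  · rw [toBC_pr]; exact (Category.id_comp _).symm
  · rw [toBC_snd]; exact (Category.id_comp _).symm

theorem pr_ptsEquiv (x : bcPt K ⟶ A) : (ptsEquiv K x).left ≫ bcPr K A = x.left := by
  have e : ∀ {Z : Over (Spec (CommRingCat.of K))} (u : (Over.map (bcMap K)).obj Z ⟶ A),
      ((Over.mapPullbackAdj (bcMap K)).homEquiv Z A u).left ≫ pullback.fst A.hom (bcMap K) = u.left := fun u => by
    simp [Over.mapPullbackAdj, Adjunction.mkOfHomEquiv_homEquiv]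
  exact (e _).trans (show (unitIso (k := k) K).hom.left ≫ x.left = x.left from Category.id_comp _)

theorem toBC_snd_comp (x : bcPt K ⟶ A) : toBC K (snd A (bcPt K) ≫ x) = toUnit _ ≫ ptsEquiv K x := by
  ext1
  apply pullback.hom_ext
  · rw [toBC_pr, Over.comp_left, Over.comp_left, Category.assoc, pr_ptsEquiv]
    rfl
  · rw [toBC_snd]
    exact (Over.w (toUnit (bcObj K A) ≫ ptsEquiv K x)).symm

theorem pull_pr_symm {c : Pic A.left} (hc : pull ((𝟙 A)⁻¹).left c = c) :
    pull ((𝟙 (bcObj K A))⁻¹).left (pull (bcPr K A) c) = pull (bcPr K A) c := by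
  have e : (Over.pullback (bcMap K)).map (𝟙 A)⁻¹ = (𝟙 (bcObj K A))⁻¹ := by
    refine eq_inv_of_mul_eq_one_left (G := bcObj K A ⟶ bcObj K A) ?_
    rw [← CategoryTheory.Functor.map_id (Over.pullback (bcMap K)) A]
    refine (Functor.map_mul (Over.pullback (bcMap K)) _ _).symm.trans ?_
    rw [inv_mul_cancel, Functor.map_one]
  rw [← pull_comp, ← e,
    show ((Over.pullback (bcMap K)).map (𝟙 A)⁻¹).left ≫ bcPr K A = bcPr K A ≫ ((𝟙 A)⁻¹).left from
      pullback.lift_fst _ _ _, pull_comp, hc]

variable [IsAlgClosed K] [IsProper A.hom] [GeometricallyIntegral A.hom] [IsCommMonObj A]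
  {B : Over (Spec (CommRingCat.of k))} [GrpObj B] [IsProper B.hom] [GeometricallyIntegral B.hom] [IsCommMonObj B]

theorem defect_point (c : Pic A.left) (x : bcPt K ⟶ A) :
    defect c (fst A (bcPt K)) (snd A (bcPt K) ≫ x) = phi (pull (bcPr K A) c) (ptsEquiv K x) := by
  have e1 : pull (fst A (bcPt K) * (snd A (bcPt K) ≫ x)).left c =
      pull (trR (ptsEquiv K x)).left (pull (bcPr K A) c) := by
    rw [← toBC_pr, map_mul, toBC_fst, toBC_snd_comp, pull_comp]
    rfl
  have e2 : pull (snd A (bcPt K) ≫ x).left c = 1 := by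
    rw [← pull_left_comp, show pull x.left c = 1 from eq_one_of_local (R := CommRingCat.of K) _, map_one]
  rw [defect, e1, e2, _root_.mul_one, phi_apply]
  all_goals rfl

theorem defect_point_comp (d : Pic B.left) (f : A ⟶ B) (y : bcPt K ⟶ B) :
    defect d (fst A (bcPt K) ≫ f) (snd A (bcPt K) ≫ y) =
      pull ((Over.pullback (bcMap K)).map f).left (phi (pull (bcPr K B) d) (ptsEquiv K y)) := by
  have e : defect d (fst A (bcPt K) ≫ f) (snd A (bcPt K) ≫ y) =
      pull (f ▷ bcPt K).left (defect d (fst B (bcPt K)) (snd B (bcPt K) ≫ y)) := by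
    rw [pull_defect, whiskerRight_fst, whiskerRight_snd_assoc]
  rw [e, defect_point]
  congr 2

/-- The condition on a point of the extension. -/
theorem adjCl_point (c : Pic A.left) (d : Pic B.left) (f : A ⟶ B) (x : bcPt K ⟶ A) (y : bcPt K ⟶ B) :
    adjCl c d f (lift x y) = phi (pull (bcPr K A) c) (ptsEquiv K x) /
      pull ((Over.pullback (bcMap K)).map f).left (phi (pull (bcPr K B) d) (ptsEquiv K y)) := by
  rw [adjCl, lift_fst, lift_snd, defect_point, defect_point_comp]

end Groth.Agent.PoincareLib
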