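import Groth.Agent.PoincareLib.Reduce
import Groth.Agent.AVHomLib.End0
import Mathlib.RingTheory.Artinian.Module
import Mathlib.RingTheory.Jacobson.Semiprimary

/-!
# Semisimplicity of the rational endomorphism algebra
-/

set_option autoImplicit false
set_option backward.isDefEq.respectTransparency false
set_option linter.style.haveILetI false

universe u

open CategoryTheory MonoidalCategory CartesianMonoidalCategory MonObj AlgebraicGeometry

noncomputable section

namespace Groth.Agent.PoincareLib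

variable {k : Type u} [Field k] (A : Over (Spec (CommRingCat.of k)))
  [GrpObj A] [IsCommMonObj A] [IsProper A.hom] [GeometricallyIntegral A.hom]

/-- Every endomorphism is quasi-regular. -/
theorem exists_quasi_inverse (x : EndAV.End A) : ∃ (y : EndAV.End A) (n : ℕ), 1 ≤ n ∧ x * y * x = n • x := by
  obtain ⟨M, hM, p, j, hp, hj, hjc, hps, hMp, hMg, hMc, hpj⟩ := exists_image_av (B := A) x.toHom
  letI := hM
  haveI := hp; haveI := hj; haveI := hjc; haveI := hps; haveI := hMp; haveI := hMg; haveI := hMc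
  obtain ⟨N, r, hN, hr, hjr⟩ := exists_retraction j
  obtain ⟨N', s, hN', hs, hsp⟩ := exists_section p
  haveI := hr; haveI := hs
  refine ⟨EndAV.End.of (r ≫ s), N * N', Nat.mul_pos hN hN', EndAV.Hom.ext ?_⟩
  rw [EndAV.Hom.toHom_nsmul]
  show EndAV.End.toHom (x * EndAV.End.of (r ≫ s) * x) = _
  rw [EndAV.End.toHom_mul, EndAV.End.toHom_mul, EndAV.End.toHom_of]
  show x.toHom ≫ (r ≫ s) ≫ x.toHom = x.toHom ^ (N * N')
  rw [← hpj]
  simp only [Category.assoc]
  rw [← Category.assoc j r, hjr, ← Category.assoc s p, hsp, pow_mul]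
  simp only [MonObj.pow_comp, MonObj.comp_pow, Category.id_comp, Category.comp_id]
  all_goals rw [← pow_mul, ← pow_mul, Nat.mul_comm]

/-- Every element of the rational endomorphism algebra is regular. -/
theorem exists_inner_inverse (x : EndAV.End0 A) : ∃ y, x * y * x = x := by
  obtain ⟨d, φ, hd, hx⟩ := AVHomLib.exists_den x
  obtain ⟨ψ, n, hn, hψ⟩ := exists_quasi_inverse A φ
  refine ⟨((d : ℚ) / n) • EndAV.toEnd0 ψ, ?_⟩
  have hd' : (d : ℚ) ≠ 0 := by exact_mod_cast hd.ne'
  have hn' : (n : ℚ) ≠ 0 := by exact_mod_cast (Nat.one_le_iff_ne_zero.1 hn)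
  have hx' : x = (d : ℚ)⁻¹ • EndAV.toEnd0 φ := by rw [← hx, smul_smul, inv_mul_cancel₀ hd', one_smul]
  rw [hx', smul_mul_smul_comm, smul_mul_smul_comm, ← map_mul, ← map_mul, hψ, map_nsmul, ← Nat.cast_smul_eq_nsmul ℚ,
    smul_smul]
  congr 1
  field_simp

theorem isSemisimpleRing_end0 : IsSemisimpleRing (EndAV.End0 A) := by
  haveI := AVHomLib.finite_end0 A
  haveI : IsArtinianRing (EndAV.End0 A) := IsArtinianRing.of_finite ℚ _
  rw [IsArtinianRing.isSemisimpleRing_iff_jacobson, eq_bot_iff]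
  intro x hx
  obtain ⟨y, hy⟩ := exists_inner_inverse A x
  obtain ⟨n, hn⟩ := IsSemiprimaryRing.isNilpotent (R := EndAV.End0 A)
  have he : y * x ∈ Ring.jacobson (EndAV.End0 A) := Ideal.mul_mem_left _ y hx
  have hidem : IsIdempotentElem (y * x) := by
    show y * x * (y * x) = y * x
    rw [← _root_.mul_assoc, _root_.mul_assoc y x, _root_.mul_assoc y (x * y), hy]
  have h2 : (y * x) ^ (n + 1) ∈ Ring.jacobson (EndAV.End0 A) ^ (n + 1) := Ideal.pow_mem_pow he _
  rw [hidem.pow_succ_eq, Submodule.pow_succ, hn] at h2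
  simp at h2
  rw [Ideal.mem_bot]
  rw [← hy, _root_.mul_assoc, show y * x = 0 from h2, mul_zero]

theorem eq_zero_of_central_nilpotent {x : EndAV.End0 A} (hc : ∀ z, x * z = z * x) (h : IsNilpotent x) : x = 0 := by
  obtain ⟨y, hy⟩ := exists_inner_inverse A x
  have h1 : (y * x) * (y * x) = y * x := by
    rw [← _root_.mul_assoc, _root_.mul_assoc y x, _root_.mul_assoc y (x * y), hy]
  obtain ⟨n, hn⟩ := h
  have hcomm : Commute y x := (hc y).symm
  have h2 : (y * x) ^ (n + 1) = 0 := by rw [hcomm.mul_pow, pow_succ x, hn, zero_mul, mul_zero]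
  rw [IsIdempotentElem.pow_succ_eq n h1] at h2
  rw [← hy, _root_.mul_assoc, h2, mul_zero]

end Groth.Agent.PoincareLib
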